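import Cfsg.Agent.Lib.Perm.AltSection.Lin

/-!
# The sum of the signs of the elements of a group of two power order

For a representation of a 2-group `H` over a field where `2 ≠ 0`, the sum over `g` of
`2 dim V^g - dim V^(g^2)` is `|H| dim V^H`. This stands in for the orthogonality of the lifted characters.
-/

set_option autoImplicit false

namespace CfsgLib.Known.E8Sub

open Module
open CfsgLib.Perm.AltSection (eig mem_eig)

variable {K : Type*} [Field K] {V : Type*} [AddCommGroup V] [Module K V]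

/-- The dimension of the fixed space. -/
noncomputable def fdim (t : End K V) : ℕ := finrank K ↥(eig t 1)

/-- The sign sum of an operator. -/
noncomputable def sgnSum (t : End K V) : ℤ := 2 * (fdim t : ℤ) - (fdim (t ^ 2) : ℤ)

/-- The fixed space of a representation. -/
def fixAll {H : Type*} [Monoid H] (ρ : H →* End K V) : Submodule K V := ⨅ g, eig (ρ g) 1

theorem mem_fixAll {H : Type*} [Monoid H] {ρ : H →* End K V} {v : V} :
    v ∈ fixAll ρ ↔ ∀ g, ρ g v = v := by
  simp [fixAll, mem_eig]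

/-- A representation on an invariant subspace. -/
def subRep {H : Type*} [Monoid H] (ρ : H →* End K V) (S : Submodule K V) (h : ∀ g, ∀ v ∈ S, ρ g v ∈ S) :
    H →* End K S where
  toFun g := (ρ g).restrict (h g)
  map_one' := LinearMap.ext fun v => Subtype.ext (by simp)
  map_mul' a b := LinearMap.ext fun v => Subtype.ext (by simp)

theorem subRep_apply {H : Type*} [Monoid H] (ρ : H →* End K V) (S : Submodule K V) (h : ∀ g, ∀ v ∈ S, ρ g v ∈ S)
    (g : H) (v : S) : (subRep ρ S h g v : V) = ρ g v := rfl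

theorem restrict_pow {H : Type*} [Monoid H] (ρ : H →* End K V) (S : Submodule K V) (h : ∀ g, ∀ v ∈ S, ρ g v ∈ S)
    (g : H) : (subRep ρ S h g) ^ 2 = subRep ρ S h (g ^ 2) := (map_pow _ _ _).symm

variable [FiniteDimensional K V]

theorem finrank_comap_subtype (S T : Submodule K V) :
    finrank K ↥(T.comap S.subtype) = finrank K ↥(S ⊓ T) := by
  rw [← Submodule.map_comap_subtype]
  exact (LinearEquiv.finrank_eq (Submodule.equivMapOfInjective _ (Submodule.injective_subtype S) _))

theorem fdim_subRep {H : Type*} [Monoid H] (ρ : H →* End K V) (S : Submodule K V) (h : ∀ g, ∀ v ∈ S, ρ g v ∈ S)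
    (g : H) : fdim (subRep ρ S h g) = finrank K ↥(S ⊓ eig (ρ g) 1) := by
  rw [fdim, ← finrank_comap_subtype, show eig (subRep ρ S h g) 1 = (eig (ρ g) 1).comap S.subtype by
    ext v
    simp only [mem_eig, Submodule.mem_comap, one_smul, Submodule.subtype_apply, Subtype.ext_iff, subRep_apply]]

/-- The fixed space of the square splits by the signs. -/
theorem finrank_inf_sq (h2 : (2 : K) ≠ 0) (a : End K V) (S : Submodule K V) (hS : ∀ v ∈ S, a v ∈ S) :
    finrank K ↥(S ⊓ eig a 1) + finrank K ↥(S ⊓ eig a (-1)) = finrank K ↥(S ⊓ eig (a ^ 2) 1) := by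
  rw [← Submodule.finrank_sup_add_finrank_inf_eq]
  have hbot : (S ⊓ eig a 1) ⊓ (S ⊓ eig a (-1)) = ⊥ := by
    rw [eq_bot_iff]
    intro v hv
    simp only [Submodule.mem_inf, mem_eig, one_smul, neg_smul] at hv
    have : (2 : K) • v = 0 := by rw [two_smul]; exact add_eq_zero_iff_eq_neg.2 (hv.1.2.symm.trans hv.2.2)
    exact (Submodule.mem_bot K).2 ((smul_eq_zero.1 this).resolve_left h2)
  rw [hbot, finrank_bot, add_zero]
  suffices e : (S ⊓ eig a 1) ⊔ (S ⊓ eig a (-1)) = S ⊓ eig (a ^ 2) 1 by rw [e]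
  · refine le_antisymm (sup_le ?_ ?_) ?_
    iterate 2
      intro v hv
      simp only [Submodule.mem_inf, mem_eig, one_smul, neg_smul] at hv ⊢
      exact ⟨hv.1, by rw [pow_two, Module.End.mul_apply, hv.2]; simp [hv.2]⟩
    intro v hv
    simp only [Submodule.mem_inf, mem_eig, one_smul, pow_two, Module.End.mul_apply] at hv
    refine Submodule.mem_sup.2 ⟨(2 : K)⁻¹ • (v + a v), ?_, (2 : K)⁻¹ • (v - a v), ?_, ?_⟩
    · refine ⟨Submodule.smul_mem _ _ (add_mem hv.1 (hS v hv.1)), mem_eig.2 ?_⟩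
      rw [one_smul, map_smul, map_add, hv.2, add_comm]
    · refine ⟨Submodule.smul_mem _ _ (sub_mem hv.1 (hS v hv.1)), mem_eig.2 ?_⟩
      rw [map_smul, map_sub, hv.2, neg_one_smul, ← smul_neg, neg_sub]
    · rw [← smul_add, show v + a v + (v - a v) = (2 : K) • v by rw [two_smul]; abel, smul_smul,
        inv_mul_cancel₀ h2, one_smul]

theorem finrank_split (h2 : (2 : K) ≠ 0) {s : End K V} (hs : s ^ 2 = 1) (t : End K V) (hc : Commute s t) :
    finrank K ↥(eig s 1 ⊓ eig t 1) + finrank K ↥(eig s (-1) ⊓ eig t 1) = fdim t := by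
  have h := finrank_inf_sq h2 s (eig t 1) fun v hv => by
    rw [mem_eig, one_smul] at hv ⊢
    rw [← Module.End.mul_apply, ← hc.eq, Module.End.mul_apply, hv]
  rw [hs, show eig (1 : End K V) 1 = ⊤ by ext; simp [mem_eig], inf_top_eq] at h
  rw [fdim, ← h, inf_comm, inf_comm (eig s (-1))]

omit [FiniteDimensional K V] in
theorem sgnSum_one : sgnSum (1 : End K V) = finrank K V := by
  rw [sgnSum, one_pow, fdim, show eig (1 : End K V) 1 = ⊤ by ext; simp [mem_eig], finrank_top]
  ring

omit [FiniteDimensional K V] in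
/-- The sum of the signs over a group of two power order. -/
theorem sum_sgnSum (h2 : (2 : K) ≠ 0) : ∀ (n : ℕ) {H : Type*} [Group H] [Fintype H] (_ : Fintype.card H = n)
    (_ : IsPGroup 2 H) {V : Type*} [AddCommGroup V] [Module K V] [FiniteDimensional K V] (ρ : H →* End K V),
    ∑ g, sgnSum (ρ g) = n * (finrank K ↥(fixAll ρ) : ℤ) := by
  intro n
  induction n using Nat.strong_induction_on with
  | _ n ih =>
  intro H _ _ hn hH V _ _ _ ρ
  classical
  rcases subsingleton_or_nontrivial H with hs | hs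
  · have hn1 : n = 1 := by rw [← hn]; exact Fintype.card_eq_one_iff.2 ⟨1, fun g => Subsingleton.elim _ _⟩
    have hfix : fixAll ρ = ⊤ := by
      ext v
      simp only [mem_fixAll, Submodule.mem_top, iff_true]
      intro g
      rw [Subsingleton.elim g 1, map_one, End.one_apply]
    rw [Fintype.sum_subsingleton _ (1 : H), map_one, sgnSum_one, hfix, finrank_top, hn1, Nat.cast_one, one_mul]
  haveI : Fact (Nat.Prime 2) := ⟨Nat.prime_two⟩
  haveI := hH.center_nontrivial
  obtain ⟨⟨z, hz⟩, hzo⟩ : ∃ z : Subgroup.center H, orderOf z = 2 := by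
    refine exists_prime_orderOf_dvd_card' 2 ?_
    obtain ⟨k, hk⟩ := (hH.to_subgroup (Subgroup.center H)).exists_card_eq
    rcases k with _ | k
    · exact absurd hk (by rw [pow_zero]; exact Finite.one_lt_card.ne')
    · rw [hk]; exact dvd_pow_self 2 k.succ_ne_zero
  rw [Subgroup.orderOf_mk] at hzo
  have hz2 : z * z = 1 := by rw [← pow_two, ← hzo, pow_orderOf_eq_one]
  have hcomm : ∀ g : H, g * z = z * g := fun g => Subgroup.mem_center_iff.1 hz g
  have hs2 : ρ z ^ 2 = 1 := by rw [← map_pow, pow_two, hz2, map_one]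
  have hcm : ∀ g, Commute (ρ z) (ρ g) := fun g => by
    show ρ z * ρ g = ρ g * ρ z
    rw [← map_mul, ← map_mul, hcomm]
  have hinv : ∀ (c : K) g, ∀ v ∈ eig (ρ z) c, ρ g v ∈ eig (ρ z) c := fun c g v hv => by
    rw [mem_eig] at hv ⊢
    rw [← Module.End.mul_apply, (hcm g).eq, Module.End.mul_apply, hv, map_smul]
  obtain ⟨σ, hσ⟩ : ∃ σ, σ = subRep ρ (eig (ρ z) 1) (hinv 1) := ⟨_, rfl⟩
  obtain ⟨μ, hμ⟩ : ∃ μ, μ = subRep ρ (eig (ρ z) (-1)) (hinv (-1)) := ⟨_, rfl⟩
  have hsplit : ∀ g, fdim (ρ g) = fdim (σ g) + fdim (μ g) := fun g => by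
    rw [hσ, hμ, fdim_subRep, fdim_subRep, finrank_split h2 hs2 _ (hcm g)]
  have hsgn : ∀ g, sgnSum (ρ g) = sgnSum (σ g) + sgnSum (μ g) := fun g => by
    simp only [sgnSum, ← map_pow, hsplit, Nat.cast_add]; ring
  -- the anti-fixed part
  have hneg : ∀ g, sgnSum (μ g) + sgnSum (μ (g * z)) = 0 := fun g => by
    have e : μ (g * z) = - μ g := LinearMap.ext fun v => Subtype.ext (by
      have hv := mem_eig.1 v.2
      rw [LinearMap.neg_apply, Submodule.coe_neg, hμ, subRep_apply, subRep_apply, map_mul, Module.End.mul_apply, hv,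
        neg_one_smul, map_neg])
    have h := finrank_inf_sq h2 (μ g) ⊤ fun _ _ => Submodule.mem_top
    rw [top_inf_eq, top_inf_eq, top_inf_eq,
      show eig (μ g) (-1) = eig (μ (g * z)) 1 by
        ext v; rw [e, mem_eig, mem_eig, LinearMap.neg_apply, one_smul, neg_one_smul, neg_eq_iff_eq_neg]] at h
    rw [← map_pow] at h
    simp only [sgnSum, ← map_pow, show (g * z) ^ 2 = g ^ 2 by
      rw [pow_two, pow_two, mul_assoc, ← mul_assoc z, ← hcomm, mul_assoc g z z, hz2, mul_one]]
    simp only [fdim] at *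
    omega
  have hμ0 : ∑ g, sgnSum (μ g) = 0 := by
    have h := Equiv.sum_comp (Equiv.mulRight z) fun g => sgnSum (μ g)
    have h' : ∑ g, (sgnSum (μ g) + sgnSum (μ (g * z))) = 0 := Finset.sum_eq_zero fun g _ => hneg g
    rw [Finset.sum_add_distrib] at h'
    simp only [Equiv.coe_mulRight] at h
    omega
  -- the fixed part
  obtain ⟨N, hN⟩ : ∃ N, N = Subgroup.zpowers z := ⟨_, rfl⟩
  haveI : N.Normal := ⟨fun m hm g => by
    obtain ⟨k, rfl⟩ := Subgroup.mem_zpowers_iff.1 (hN ▸ hm)
    rw [hN, ((Commute.zpow_right (show Commute g z from hcomm g) k).eq), mul_inv_cancel_right]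
    exact Subgroup.zpow_mem_zpowers _ _⟩
  have hker : N ≤ σ.ker := by
    rw [hN, Subgroup.zpowers_le, MonoidHom.mem_ker, hσ]
    exact LinearMap.ext fun v => Subtype.ext (by
      rw [subRep_apply, mem_eig.1 v.2, one_smul, End.one_apply])
  obtain ⟨τ, hτ⟩ : ∃ τ : H ⧸ N →* _, τ = QuotientGroup.lift N σ hker := ⟨_, rfl⟩
  have hτm : ∀ g : H, τ (g : H ⧸ N) = σ g := fun g => by rw [hτ, QuotientGroup.lift_mk]
  have hcN : Fintype.card N = 2 := by
    rw [← Nat.card_eq_fintype_card, hN, Nat.card_zpowers, hzo]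
  have hcq : Fintype.card (H ⧸ N) * 2 = n := by
    rw [← hn, ← hcN, ← Fintype.card_prod]
    exact (Fintype.card_congr Subgroup.groupEquivQuotientProdSubgroup).symm
  have hqpos : 0 < Fintype.card (H ⧸ N) := Fintype.card_pos
  have hq := ih (Fintype.card (H ⧸ N)) (by omega) rfl (hH.to_quotient N) τ
  have hσs : ∑ g, sgnSum (σ g) = 2 * ∑ q : H ⧸ N, sgnSum (τ q) := by
    rw [← Finset.sum_fiberwise (Finset.univ : Finset H) (fun g => (g : H ⧸ N)), Finset.mul_sum]
    refine Finset.sum_congr rfl fun q _ => ?_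
    rw [Finset.sum_congr rfl fun g hg => show sgnSum (σ g) = sgnSum (τ q) by
      rw [← (Finset.mem_filter.1 hg).2, hτm], Finset.sum_const, nsmul_eq_mul]
    obtain ⟨a, rfl⟩ := QuotientGroup.mk_surjective q
    congr 1
    rw [show (2 : ℤ) = ((Fintype.card N : ℕ) : ℤ) by rw [hcN]; rfl]
    congr 1
    rw [← Finset.card_univ]
    refine Finset.card_bij' (fun g hg => ⟨a⁻¹ * g, QuotientGroup.eq.1 (Finset.mem_filter.1 hg).2.symm⟩)
      (fun m _ => a * m) (fun _ _ => Finset.mem_univ _) (fun m _ => Finset.mem_filter.2 ⟨Finset.mem_univ _, ?_⟩)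
      (fun g _ => by simp) (fun m _ => Subtype.ext (by simp))
    exact (QuotientGroup.eq.2 (by simp)).symm
  have hfix : finrank K ↥(fixAll ρ) = finrank K ↥(fixAll τ) := by
    have e : fixAll τ = (fixAll ρ).comap (eig (ρ z) 1).subtype := by
      ext v
      simp only [mem_fixAll, Submodule.mem_comap, Submodule.subtype_apply]
      constructor
      · intro h g
        have := congrArg Subtype.val (h g)
        rwa [hτm, hσ, subRep_apply] at this
      · intro h q
        obtain ⟨g, rfl⟩ := QuotientGroup.mk_surjective q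
        rw [hτm, hσ]
        exact Subtype.ext (h g)
    rw [e, finrank_comap_subtype, inf_eq_right.2]
    intro v hv
    rw [mem_eig, one_smul]
    exact mem_fixAll.1 hv z
  rw [Finset.sum_congr rfl fun g _ => hsgn g, Finset.sum_add_distrib, hμ0, add_zero, hσs, hq, hfix, ← hcq,
    Nat.cast_mul]
  push_cast
  ring

theorem sgnSum_neg (h2 : (2 : K) ≠ 0) (t : End K V) : sgnSum (-t) = - sgnSum t := by
  have h := finrank_inf_sq h2 t ⊤ fun _ _ => Submodule.mem_top
  rw [top_inf_eq, top_inf_eq, top_inf_eq,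
    show eig t (-1) = eig (-t) 1 by
      ext v; rw [mem_eig, mem_eig, LinearMap.neg_apply, one_smul, neg_one_smul, neg_eq_iff_eq_neg]] at h
  have e2 : (-t) ^ 2 = t ^ 2 := by rw [pow_two, pow_two, neg_mul, mul_neg, neg_neg]
  simp only [sgnSum, fdim] at h ⊢
  rw [e2]
  omega

/-- The sum of the signs is a nonnegative multiple of the order. -/
theorem fix_sum (h2 : (2 : K) ≠ 0) {H : Type*} [Group H] [Fintype H] (hH : IsPGroup 2 H) (ρ : H →* End K V) :
    ∑ g, sgnSum (ρ g) = (Fintype.card H : ℤ) * (finrank K ↥(fixAll ρ) : ℤ) :=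
  sum_sgnSum h2 _ rfl hH ρ

/-- The sum twisted by a character with values signs. -/
theorem fix_sum_char (h2 : (2 : K) ≠ 0) {H : Type*} [Group H] [Fintype H] (hH : IsPGroup 2 H) (ρ : H →* End K V)
    (ε : H →* ℤˣ) : ∃ d : ℕ, d ≤ finrank K V ∧
      ∑ g, ((ε g : ℤˣ) : ℤ) * sgnSum (ρ g) = (Fintype.card H : ℤ) * (d : ℤ) := by
  obtain ⟨σ, hσ⟩ : ∃ σ : H →* End K V, ∀ g, σ g = (((ε g : ℤˣ) : ℤ) : K) • ρ g :=
    ⟨{ toFun := fun g => (((ε g : ℤˣ) : ℤ) : K) • ρ g
       map_one' := by simp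
       map_mul' := fun a b => by
        simp only [map_mul, Units.val_mul, Int.cast_mul, smul_mul_assoc, mul_smul_comm, smul_smul]
        rw [mul_comm] }, fun _ => rfl⟩
  refine ⟨finrank K ↥(fixAll σ), Submodule.finrank_le _, ?_⟩
  rw [← fix_sum h2 hH σ]
  refine Finset.sum_congr rfl fun g _ => ?_
  rw [hσ]
  rcases Int.units_eq_one_or (ε g) with e | e <;> rw [e]
  · simp
  · simp [sgnSum_neg h2]

end CfsgLib.Known.E8Sub
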