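import Cfsg.Agent.Lib.Known.E8Sub.FixSum
import Cfsg.Agent.Lib.Known.AltE6.Toral
import Cfsg.Agent.Lib.Known.ChevFixed
import Mathlib.LinearAlgebra.Matrix.Rank

/-!
# Fixed spaces do not change under extensions of the field
-/

set_option autoImplicit false

namespace CfsgLib.Known.E8Sub

open Module
open Cfsg.Lie (ChevalleyDatum)
open CfsgLib.Lie.Chev
open CfsgLib.Known.AltE6 (rep rep_apply)
open CfsgLib.Known.ChevFixed (groupMap)
open CfsgLib.Perm.AltSection (eig mem_eig)

/-- The rank of a square matrix in an extension of the field. -/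
theorem rank_map_ext {m K L : Type*} [Fintype m] [DecidableEq m] [Field K] [Field L] (f : K →+* L)
    (A : Matrix m m K) : (A.map f).rank = A.rank := by
  classical
  obtain ⟨V, U, e, hV, hU, h⟩ := A.exists_rank_normal_form
  have h' := congrArg f.mapMatrix h
  simp only [map_mul, RingHom.mapMatrix_apply] at h'
  have hV' : IsUnit (V.map f).det := (Matrix.isUnit_iff_isUnit_det _).1 (hV.map f.mapMatrix)
  have hU' : IsUnit (U.map f).det := (Matrix.isUnit_iff_isUnit_det _).1 (hU.map f.mapMatrix)
  rw [← Matrix.rank_mul_eq_right_of_isUnit_det _ (A.map f) hV',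
    ← Matrix.rank_mul_eq_left_of_isUnit_det _ ((V.map f) * (A.map f)) hU', h',
    ← Matrix.submatrix_map, Matrix.fromBlocks_map, Matrix.map_one f (map_zero f) (map_one f)]
  simp only [Matrix.map_zero f (map_zero f)]
  rw [Matrix.rank_submatrix, ← Matrix.diagonal_one, ← Matrix.diagonal_zero,
    Matrix.fromBlocks_diagonal, Matrix.rank_diagonal]
  let s : {i : Fin A.rank ⊕ Fin (Fintype.card m - A.rank) //
      Sum.elim (fun _ => (1 : L)) (fun _ => (0 : L)) i ≠ 0} ≃ Fin A.rank :=
    { toFun := fun i => match i with
        | ⟨Sum.inl a, _⟩ => a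
        | ⟨Sum.inr _, h⟩ => absurd rfl h
      invFun := fun a => ⟨Sum.inl a, one_ne_zero⟩
      left_inv := fun i => by
        rcases i with ⟨a | b, h⟩
        · rfl
        · exact absurd rfl h
      right_inv := fun _ => rfl }
  rw [Fintype.card_congr s, Fintype.card_fin]

theorem fdim_toLin' {m K : Type*} [Fintype m] [DecidableEq m] [Field K] (A : Matrix m m K) :
    fdim (Matrix.toLin' A) + (A - 1).rank = Fintype.card m := by
  have e : eig (Matrix.toLin' A) 1 = LinearMap.ker (Matrix.toLin' (A - 1)) := by
    ext v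
    rw [mem_eig, one_smul, LinearMap.mem_ker, map_sub, Matrix.toLin'_one, LinearMap.sub_apply, LinearMap.id_apply,
      sub_eq_zero]
  have h := (Matrix.toLin' (A - 1)).finrank_range_add_finrank_ker
  rw [Module.finrank_fintype_fun_eq_card] at h
  rw [fdim, e, ← h, add_comm, Matrix.rank, Matrix.toLin'_apply']

/-- The dimension of the fixed space of an element in an extension of the field. -/
theorem fdim_groupMap {D : ChevalleyDatum} {X : Aux} (C : Cert D X) {F L : Type*} [Field F] [Field L]
    (ι : F →+* L) (g : ↥(D.group F)) : fdim (rep D L (groupMap D ι g)) = fdim (rep D F g) := by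
  have h1 := fdim_toLin' ((chevRel C F).mat g)
  have h2 := fdim_toLin' ((chevRel C L).mat (groupMap D ι g))
  have e : (chevRel C L).mat (groupMap D ι g) - 1 = ((chevRel C F).mat g - 1).map ι := by
    rw [Matrix.map_sub ι (map_sub ι), Matrix.map_one ι (map_zero ι) (map_one ι)]
    rfl
  rw [e, rank_map_ext] at h2
  rw [rep_apply C, rep_apply C]
  omega

theorem fdim_conj {D : ChevalleyDatum} {F : Type*} [Field F] (g x : ↥(D.group F)) :
    fdim (rep D F (g * x * g⁻¹)) = fdim (rep D F x) := by
  have hgi : Function.Injective (rep D F g) := fun a b e => by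
    have := congrArg (rep D F g⁻¹) e
    rwa [← End.mul_apply, ← End.mul_apply, ← map_mul, inv_mul_cancel, map_one, End.one_apply, End.one_apply] at this
  have e : eig (rep D F (g * x * g⁻¹)) 1 = (eig (rep D F x) 1).map (rep D F g) := by
    ext v
    simp only [mem_eig, Submodule.mem_map, one_smul]
    constructor
    · intro hv
      refine ⟨rep D F g⁻¹ v, hgi ?_, ?_⟩
      · rw [← End.mul_apply, ← End.mul_apply, ← map_mul, ← map_mul, ← End.mul_apply, ← map_mul,
          mul_inv_cancel, map_one, End.one_apply]
        exact hv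
      · rw [← End.mul_apply, ← map_mul, mul_inv_cancel, map_one, End.one_apply]
    · rintro ⟨w, hw, rfl⟩
      rw [← End.mul_apply, ← map_mul, show g * x * g⁻¹ * g = g * x by group, map_mul, End.mul_apply, hw]
  rw [fdim, fdim, e, ← LinearEquiv.finrank_eq (Submodule.equivMapOfInjective _ hgi _)]

theorem fdim_of_isConj {D : ChevalleyDatum} {F : Type*} [Field F] {x y : ↥(D.group F)} (h : IsConj x y) :
    fdim (rep D F y) = fdim (rep D F x) := by
  obtain ⟨g, rfl⟩ := isConj_iff.1 h
  exact fdim_conj g x

end CfsgLib.Known.E8Sub
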