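import Cfsg.Agent.Lib.Known.E8Sub.FunEightCheck

/-!
# The numbers of roots killed by the functionals of elements of order dividing eight

The Weyl group moves a functional to one of two classes modulo two, and, in the case of interest, to one class
modulo four; the lifts of the representatives are enumerated.
-/

set_option autoImplicit false
set_option maxRecDepth 20000

namespace CfsgLib.Known.E8Sub

open Cfsg.Lie (chevE8)
open CfsgLib.Lie.Chev hiding monP
open CfsgLib.Known.E8SL2 (fv toF dotN dotN_eq coT coT_ok bits mem_bits fv_add fv_smul fv_comp)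

/-- The number of roots with a given value. -/
def cnt (f : Fin 8 → ZMod 8) (x : ZMod 8) : ℕ :=
  (Finset.univ.filter fun r : Fin chevE8.nroots => fv f (r : ℕ) = x).card

theorem coef_cast (j : Fin 8) {r : ℕ} (hr : r < 240) :
    (auxE8.coef j r : ZMod 8) = (((coT.getD r []).getD (j : ℕ) 0 + 2 : ℕ) : ZMod 8) := by
  have h := (coT_ok.2 ⟨r, hr⟩).2 j
  calc (auxE8.coef j r : ZMod 8) = (((((coT.getD r []).getD (j : ℕ) 0 : ℕ) : ℤ) - 6 : ℤ) : ZMod 8) := by
        rw [h, add_sub_cancel_right]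
    _ = _ := by
        rw [Int.cast_sub, Int.cast_natCast, Nat.cast_add, sub_eq_add_neg]
        rfl

theorem cnt_toF {l : List ℕ} (hl : l.length = 8) {x : ℕ} (hx : x < 8) : cnt (toF l) (x : ZMod 8) = cntP l x := by
  have e : coT = (List.range 240).map fun r => coT.getD r [] := by
    refine List.ext_getElem (by rw [coT_ok.1, List.length_map, List.length_range]) fun i h1 h2 => ?_
    rw [List.getElem_map, List.getElem_range, List.getD_eq_getElem _ _ h1]
  rw [cntP_eq hl]
  conv_rhs => rw [e, List.countP_map]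
  refine AltE6.card_filter_countP (n := chevE8.nroots) _ _ fun r => ?_
  have hv : (rowVal l (coT.getD (r : ℕ) []) : ZMod 8) = fv (toF l) (r : ℕ) := by
    rw [rowVal, Nat.cast_sum, fv]
    refine Finset.sum_congr rfl fun j _ => ?_
    rw [coef_cast j r.2, Nat.cast_mul, ZMod.natCast_mod, ZMod.natCast_mod, mul_comm]
    rfl
  rw [Function.comp_apply, decide_eq_true_eq, ← Nat.dvd_iff_mod_eq_zero, ← ZMod.natCast_eq_zero_iff, Nat.cast_add, hv,
    Nat.mod_eq_of_lt hx, Nat.cast_sub hx.le, ZMod.natCast_self, zero_sub, add_neg_eq_zero]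

/-- The relations over the rationals. -/
noncomputable abbrev RQ : Rel chevE8 auxE8 ℚ ↥(chevE8.group ℚ) := chevRel certE8 ℚ

/-- A simple reflection of a functional. -/
noncomputable def refl (i : Fin 8) (f : Fin 8 → ZMod 8) : Fin 8 → ZMod 8 := E8SL2.comp RQ f (RQ.qgen i)

theorem cnt_refl (i : Fin 8) (f : Fin 8 → ZMod 8) (x : ZMod 8) : cnt (refl i f) x = cnt f x :=
  Finset.card_equiv (RQ.qact (RQ.qgen i)) fun r => by simp [refl, fv_comp]

theorem refl_add (i : Fin 8) (f g : Fin 8 → ZMod 8) : refl i (f + g) = refl i f + refl i g :=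
  funext fun j => fv_add f g _

theorem refl_smul (i : Fin 8) (c : ZMod 8) (f : Fin 8 → ZMod 8) : refl i (c • f) = c • refl i f :=
  funext fun j => fv_smul c f _

theorem toF_reflL (i : Fin 8) {l : List ℕ} (_hl : l.length = 8) :
    refl i (toF l) = toF (reflL i l) ∧ (reflL i l).length = 8 := by
  refine ⟨funext fun j => ?_, by simp [reflL]⟩
  obtain ⟨h2, h3, hk⟩ := wT_ok i j
  refine (congrArg (fun p : Equiv.Perm (Fin chevE8.nroots) => fv (toF l) (p (RQ.sroot j) : ℕ))
    (RQ.qact_qgen i)).trans ?_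
  show fv (toF l) (auxE8.w i (chevE8.simple j)) = _
  rw [h3, fv]
  have hc : ∀ k : Fin 8, (auxE8.coef k ((wT.getD (i : ℕ) []).getD (j : ℕ) 0) : ZMod 8) =
      (if k = j then 1 else 0) + ((negC.getD (i : ℕ) []).getD (j : ℕ) 0 : ZMod 8) * (if k = i then 1 else 0) :=
    fun k => by
      rw [coef_cast k h2, ← ZMod.natCast_mod, hk k, ZMod.natCast_mod]
      push_cast
      rfl
  simp only [hc, add_mul, Finset.sum_add_distrib, ite_mul, one_mul, zero_mul, mul_assoc, ← Finset.mul_sum,
    Finset.sum_ite_eq', Finset.mem_univ, if_true]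
  simp [toF, reflL, List.getD_eq_getElem?_getD]

/-- A word of simple reflections. -/
noncomputable def word (ws : List ℕ) (f : Fin 8 → ZMod 8) : Fin 8 → ZMod 8 :=
  ws.foldl (fun g i => refl (Fin.ofNat 8 i) g) f

theorem cnt_word : ∀ (ws : List ℕ) (f : Fin 8 → ZMod 8) (x : ZMod 8), cnt (word ws f) x = cnt f x
  | [], f, x => rfl
  | i :: ws, f, x => (cnt_word ws _ x).trans (cnt_refl _ f x)

theorem word_add : ∀ (ws : List ℕ) (f g : Fin 8 → ZMod 8), word ws (f + g) = word ws f + word ws g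
  | [], f, g => rfl
  | i :: ws, f, g => by
    show word ws (refl _ (f + g)) = _
    rw [refl_add, word_add ws]; rfl

theorem word_smul : ∀ (ws : List ℕ) (c : ZMod 8) (f : Fin 8 → ZMod 8), word ws (c • f) = c • word ws f
  | [], c, f => rfl
  | i :: ws, c, f => by
    show word ws (refl _ (c • f)) = _
    rw [refl_smul, word_smul ws]; rfl

theorem toF_wordL : ∀ (ws : List ℕ) {l : List ℕ}, l.length = 8 →
    word ws (toF l) = toF (wordL ws l) ∧ (wordL ws l).length = 8
  | [], l, hl => ⟨rfl, hl⟩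
  | i :: ws, l, hl => by
    obtain ⟨h1, h2⟩ := toF_reflL (Fin.ofNat 8 i) hl
    have := toF_wordL ws h2
    show word ws (refl _ (toF l)) = _ ∧ _
    rw [h1]
    exact this

theorem addL_length (c : ℕ) (a e : List ℕ) : (addL c a e).length = 8 := by simp [addL]

theorem toF_addL (c : ℕ) (a e : List ℕ) :
    (toF (addL c a e) : Fin 8 → ZMod 8) = toF a + (c : ZMod 8) • toF e := by
  funext j
  simp [toF, addL, List.getD_eq_getElem?_getD]

theorem toF_split (m : ℕ) (l : List ℕ) :
    (toF l : Fin 8 → ZMod 8) = toF (modL m l) + (m : ZMod 8) • toF (divL m l) := by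
  funext j
  simp only [toF, modL, divL, Pi.add_apply, Pi.smul_apply, smul_eq_mul, List.getD_eq_getElem?_getD,
    List.getElem?_map, List.getElem?_range j.2, Option.map_some, Option.getD_some]
  rw [← Nat.cast_mul, ← Nat.cast_add, Nat.mod_add_div]

theorem exists_list (f : Fin 8 → ZMod 8) : ∃ l : List ℕ, l.length = 8 ∧ toF l = f :=
  ⟨List.ofFn fun j => (f j).val, List.length_ofFn, funext fun j => by
    rw [toF, List.getD_eq_getElem _ _ (by simp), List.getElem_ofFn, ZMod.natCast_zmod_val]⟩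

/-- Every functional is a list of bits plus an even one. -/
theorem exists_bits (f : Fin 8 → ZMod 8) :
    ∃ b ∈ bits 8, ∃ e : Fin 8 → ZMod 8, f = toF b + (2 : ZMod 8) • e := by
  obtain ⟨l, hl, rfl⟩ := exists_list f
  refine ⟨modL 2 l, mem_bits _ (by simp [modL]) (fun x hx => ?_), toF (divL 2 l), toF_split 2 l⟩
  obtain ⟨j, -, rfl⟩ := List.mem_map.1 hx
  exact Nat.mod_lt _ (by norm_num)

theorem exists_index {b : List ℕ} (hb : b ∈ bits 8) : ∃ k < 256, (bits 8).getD k [] = b := by
  obtain ⟨k, hk, rfl⟩ := List.getElem_of_mem hb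
  exact ⟨k, bits_length.1 ▸ hk, List.getD_eq_getElem _ _ hk⟩

/-- A functional which is not even moves to one of the two classes modulo two. -/
theorem exists_rep_two {f : Fin 8 → ZMod 8} (hf : (4 : ZMod 8) • f ≠ 0) :
    ∃ (g e : Fin 8 → ZMod 8), (∀ (c x : ZMod 8), cnt (c • g) x = cnt (c • f) x) ∧
      (g = toF repA + (2 : ZMod 8) • e ∨ g = toF repB + (2 : ZMod 8) • e) := by
  obtain ⟨b, hb, e, rfl⟩ := exists_bits f
  have hlen := bits_length.2 b hb
  obtain ⟨k, hk, rfl⟩ := exists_index hb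
  have h := List.all_eq_true.1 ok2_true k (List.mem_range.2 hk)
  simp only [Bool.or_eq_true, beq_iff_eq] at h
  rcases h with h | h
  · refine absurd ?_ hf
    have h0 : (toF ((bits 8).getD k []) : Fin 8 → ZMod 8) = 0 := E8SL2.toF_of_isZ h
    rw [h0, zero_add, smul_smul, show (4 : ZMod 8) * 2 = 0 from by decide, zero_smul]
  obtain ⟨ws, hws⟩ : ∃ ws, ws = words2.getD k [] := ⟨_, rfl⟩
  rw [← hws] at h
  obtain ⟨h1, h2⟩ := toF_wordL ws hlen
  obtain ⟨e', he'⟩ : ∃ e', word ws (toF ((bits 8).getD k []) + (2 : ZMod 8) • e) =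
      toF (modL 2 (wordL ws ((bits 8).getD k []))) + (2 : ZMod 8) • e' := by
    refine ⟨toF (divL 2 (wordL ws ((bits 8).getD k []))) + word ws e, ?_⟩
    rw [word_add, word_smul, h1, toF_split 2 (wordL ws _), smul_add, add_assoc]
    rfl
  refine ⟨word ws (toF ((bits 8).getD k []) + (2 : ZMod 8) • e), e', fun c x => ?_, ?_⟩
  · rw [← word_smul, cnt_word]
  · rw [he']
    rcases h with h | h <;> rw [h]
    · exact Or.inl rfl
    · exact Or.inr rfl

theorem toF_nil : (toF [] : Fin 8 → ZMod 8) = 0 := funext fun j => by simp [toF]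

theorem cnt_smul_toF (c : ℕ) {l : List ℕ} {x : ℕ} (hx : x < 8) :
    cnt ((c : ZMod 8) • toF l) (x : ZMod 8) = cntP (addL c [] l) x := by
  rw [← cnt_toF (addL_length _ _ _) hx, toF_addL, toF_nil, zero_add]

/-- The numbers of fixed roots of an element of order four and of its square, and a representative. -/
theorem four_options {f : Fin 8 → ZMod 8} (hf : (4 : ZMod 8) • f ≠ 0) :
    (cnt ((4 : ZMod 8) • f) 0 = 112 ∧ cnt ((2 : ZMod 8) • f) 0 ∈ [52, 56, 84] ∧
      (cnt ((2 : ZMod 8) • f) 0 = 56 → ∃ g e : Fin 8 → ZMod 8, g = toF rep64 + (4 : ZMod 8) • e ∧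
        ∀ (c x : ZMod 8), cnt (c • g) x = cnt (c • f) x)) ∨
    (cnt ((4 : ZMod 8) • f) 0 = 128 ∧ cnt ((2 : ZMod 8) • f) 0 ∈ [58, 62, 74, 126]) := by
  obtain ⟨g, e, hg, hge⟩ := exists_rep_two hf
  obtain ⟨b, hb, e', rfl⟩ := exists_bits e
  obtain ⟨k, hk, rfl⟩ := exists_index hb
  have hlen := bits_length.2 _ hb
  have h := ok4_true
  simp only [ok4, Bool.and_eq_true, List.all_eq_true, List.mem_range, List.contains_iff_mem, Bool.or_eq_true,
    Bool.not_eq_true', beq_iff_eq] at h
  obtain ⟨⟨hA, hB⟩, hall⟩ := h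
  obtain ⟨⟨ha, hc⟩, hw⟩ := hall k hk
  have z4 : (4 : ZMod 8) * 2 = 0 := by decide
  have z24 : (2 : ZMod 8) * 4 = 0 := by decide
  have e4 : ∀ (l : List ℕ) (v : Fin 8 → ZMod 8), (4 : ZMod 8) • (toF l + (2 : ZMod 8) • v) =
      ((4 : ℕ) : ZMod 8) • toF l := fun l v => by
    rw [smul_add, smul_smul, z4, zero_smul, add_zero, Nat.cast_ofNat]
  have e2 : ∀ (l : List ℕ), (2 : ZMod 8) • (toF l + (2 : ZMod 8) • (toF ((bits 8).getD k []) + (2 : ZMod 8) • e')) =
      ((2 : ℕ) : ZMod 8) • toF (addL 2 l ((bits 8).getD k [])) := fun l => by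
    rw [toF_addL, Nat.cast_ofNat, smul_add (2 : ZMod 8) (toF ((bits 8).getD k [])), ← add_assoc, smul_add,
      smul_smul, smul_smul, show (2 : ZMod 8) * 2 * 2 = 0 from by decide, zero_smul, add_zero]
  have c0 : ∀ (c : ℕ) (l : List ℕ), cnt ((c : ZMod 8) • toF l) 0 = cntP (addL c [] l) 0 := fun c l => by
    have := cnt_smul_toF c (l := l) (x := 0) (by norm_num)
    rwa [Nat.cast_zero] at this
  rcases hge with rfl | rfl
  · refine Or.inl ⟨?_, ?_, fun h56 => ?_⟩
    · rw [← hg, e4, c0, Nat.eq_of_beq_eq_true hA]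
    · rw [← hg, e2, c0]; exact ha
    · rw [← hg, e2, c0] at h56
      rcases hw with hw | hw
      · rw [h56] at hw; exact absurd hw (by decide)
      obtain ⟨ws, hws⟩ : ∃ ws, ws = words4.getD k [] := ⟨_, rfl⟩
      rw [← hws] at hw
      obtain ⟨h1, h2⟩ := toF_wordL ws (addL_length 2 repA ((bits 8).getD k []))
      refine ⟨word ws (toF repA + (2 : ZMod 8) • (toF ((bits 8).getD k []) + (2 : ZMod 8) • e')),
        toF (divL 4 (wordL ws (addL 2 repA ((bits 8).getD k [])))) + word ws e', ?_, fun c x => ?_⟩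
      · rw [smul_add (2 : ZMod 8), ← add_assoc, word_add, smul_smul, word_smul,
          show (2 : ZMod 8) * 2 = (4 : ZMod 8) from by decide]
        have e : toF repA + (2 : ZMod 8) • toF ((bits 8).getD k []) =
            (toF (addL 2 repA ((bits 8).getD k [])) : Fin 8 → ZMod 8) := by rw [toF_addL, Nat.cast_ofNat]
        rw [e, h1, toF_split 4 (wordL ws _), hw, Nat.cast_ofNat, smul_add, add_assoc]
      · rw [← word_smul, cnt_word, hg]
  · refine Or.inr ⟨?_, ?_⟩
    · rw [← hg, e4, c0, Nat.eq_of_beq_eq_true hB]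
    · rw [← hg, e2, c0]; exact hc

/-- The numbers of fixed roots of an element of order eight. -/
theorem eight_options {f : Fin 8 → ZMod 8} (h4 : cnt ((4 : ZMod 8) • f) 0 = 112)
    (h2 : cnt ((2 : ZMod 8) • f) 0 = 56) :
    cnt f 0 ∈ [24, 26, 32, 42, 56] ∧ (cnt f 1 = cnt f 5 → cnt f 0 = 24) := by
  have hf : (4 : ZMod 8) • f ≠ 0 := fun h => by
    rw [h] at h4
    have h0 : cnt (0 : Fin 8 → ZMod 8) 0 = 240 := by
      rw [cnt, Finset.filter_eq_self.2 fun r _ => by simp [fv], Finset.card_univ, Fintype.card_fin]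
      rfl
    omega
  rcases four_options hf with ⟨-, -, h⟩ | ⟨h, -⟩
  · obtain ⟨g, e, rfl, hg⟩ := h h2
    obtain ⟨b, hb, e', rfl⟩ := exists_bits e
    obtain ⟨k, hk, rfl⟩ := exists_index hb
    have hall := List.all_eq_true.1 ok8_true k (List.mem_range.2 hk)
    simp only [Bool.and_eq_true, List.contains_iff_mem, Bool.or_eq_true, Bool.not_eq_true'] at hall
    have e8 : toF rep64 + (4 : ZMod 8) • (toF ((bits 8).getD k []) + (2 : ZMod 8) • e') =
        toF (addL 4 rep64 ((bits 8).getD k [])) := by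
      rw [toF_addL, Nat.cast_ofNat, smul_add, smul_smul, show (4 : ZMod 8) * 2 = 0 from by decide, zero_smul,
        add_zero]
    have hx : ∀ x : ℕ, x < 8 → cntP (addL 4 rep64 ((bits 8).getD k [])) x = cnt f (x : ZMod 8) := fun x hx => by
      have := hg 1 (x : ZMod 8)
      rw [one_smul, one_smul, e8, cnt_toF (addL_length _ _ _) hx] at this
      exact this
    rw [hx 0 (by norm_num), hx 1 (by norm_num), hx 5 (by norm_num), Nat.cast_zero, Nat.cast_one,
      Nat.cast_ofNat] at hall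
    refine ⟨hall.1, fun h15 => ?_⟩
    rcases hall.2 with h | h
    · exact Nat.eq_of_beq_eq_true h
    · rw [h15, Nat.beq_refl] at h; simp at h
  · omega

end CfsgLib.Known.E8Sub
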