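import Cfsg.Agent.Lib.Known.E8Sub.TwoToral
import Cfsg.Agent.Lib.Known.E8Sub.FunEight
import Cfsg.Agent.Lib.Known.E8Sub.FixExt
import Cfsg.Agent.Lib.Known.E8SL2.Setup

/-!
# The fixed spaces of elements of order dividing eight in groups of type E8

Over any finite field of odd order such an element is toral over an extension, and the dimensions of the fixed
spaces of its powers are read from a functional on the roots.
-/

set_option autoImplicit false
set_option maxRecDepth 20000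
set_option linter.style.haveILetI false

namespace CfsgLib.Known.E8Sub

open Module
open Cfsg.Lie (chevE8)
open CfsgLib.Lie.Chev hiding monP
open CfsgLib.Known.AltE6 (rep monMatrix)
open CfsgLib.Known.E8SL2 (fv HasExp mat_pow exists_exp finrank_eig_exp finrank_eig_conj eq_one_of_smul_eq_zero)
open CfsgLib.Known.ChevFixed (groupMap groupMap_injective)
open CfsgLib.Perm.AltSection (eig mem_eig)

theorem hasExp_pow {K : Type*} [Field K] {M : ℕ} [NeZero M] {ζ : Kˣ} (hζ : orderOf ζ = M)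
    {h : ↥(chevE8.group K)} {f : Fin 8 → ZMod M} (hf : HasExp ζ h f) (d : ℕ) :
    HasExp ζ (h ^ d) ((d : ZMod M) • f) := by
  rw [HasExp, mat_pow hf d]
  refine congrArg (monMatrix (chevRel certE8 K) 1) (funext fun r => ?_)
  rw [← pow_mul, pow_eq_pow_iff_modEq, hζ, ← ZMod.natCast_eq_natCast_iff, E8SL2.fv_smul, Nat.cast_mul,
    ZMod.natCast_zmod_val, ZMod.natCast_zmod_val, mul_comm]

theorem five_mul_eq_one : ∀ a : ZMod 8, ((5 : ℕ) : ZMod 8) * a = 1 ↔ a = 5 := by decide

variable {F : Type} [Field F] [Fintype F]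

/-- The functional of an element of order dividing eight. -/
theorem exists_functional_eight (hF : Odd (Fintype.card F)) {x : ↥(chevE8.group F)} (hx : x ^ 8 = 1) :
    ∃ f : Fin 8 → ZMod 8, (∀ d : ℕ, fdim (rep chevE8 F (x ^ d)) = 8 + cnt ((d : ZMod 8) • f) 0) ∧
      (∀ d : ℕ, x ^ d = 1 ↔ (d : ZMod 8) • f = 0) ∧ (IsConj x (x ^ 5) → cnt f 1 = cnt f 5) := by
  classical
  obtain ⟨L, iL, fL, ι, -, hL, -⟩ := Lie.OddInvolution.exists_quadratic_frobenius (F := F)
  have hLodd : Odd (Fintype.card L) := hL ▸ hF.pow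
  obtain ⟨M, iM, fM, κ, hM, hdvd, Y, hY⟩ := exists_toral_two certE8 Lie.OddInvolution.E8.cartanOK 3 hLodd
    (groupMap chevE8 ι x) (by rw [← map_pow, show (2 : ℕ) ^ 3 = 8 from rfl, hx, map_one])
  obtain ⟨ζ, hζ⟩ : ∃ ζ : Mˣ, orderOf ζ = 8 := E8SL2.exists_orderOf (by
    rw [Nat.card_eq_fintype_card, Fintype.card_units]
    refine dvd_trans ?_ hdvd
    obtain ⟨j, hj⟩ := hF
    rw [hL, hj]
    obtain ⟨t, ht⟩ := Nat.even_mul_succ_self j
    refine ⟨t, ?_⟩
    rw [show (2 * j + 1) ^ 2 = 4 * (j * (j + 1)) + 1 by ring, ht]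
    omega)
  rw [groupMap_comp] at hY
  obtain ⟨h, hh⟩ : ∃ h, h = Y * groupMap chevE8 (κ.comp ι) x * Y⁻¹ := ⟨_, rfl⟩
  rw [← hh] at hY
  obtain ⟨f, hf⟩ := exists_exp hζ hY (by rw [hh, conj_pow, ← map_pow, hx, map_one, mul_one, mul_inv_cancel])
  have hfd : ∀ d : ℕ, fdim (rep chevE8 F (x ^ d)) = 8 + cnt ((d : ZMod 8) • f) 0 := by
    intro d
    rw [← fdim_groupMap certE8 (κ.comp ι), ← fdim_conj Y, map_pow, ← conj_pow, ← hh, fdim]
    have h1 := finrank_eig_exp hζ (hasExp_pow hζ hf d) 0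
    rw [ZMod.val_zero, pow_zero, if_pos rfl] at h1
    exact h1
  refine ⟨f, hfd, fun d => ⟨fun hd => ?_, fun hd => ?_⟩, fun hc => ?_⟩
  · have h1 := hfd d
    have h0 := hfd 0
    rw [hd] at h1
    rw [pow_zero, Nat.cast_zero, zero_smul] at h0
    have hz : cnt (0 : Fin 8 → ZMod 8) 0 = 240 := by
      rw [cnt, Finset.filter_eq_self.2 fun r _ => by simp [fv], Finset.card_univ, Fintype.card_fin]; rfl
    have hall : cnt ((d : ZMod 8) • f) 0 = 240 := by omega
    funext j
    have hr : ∀ r : Fin chevE8.nroots, fv ((d : ZMod 8) • f) (r : ℕ) = 0 := by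
      intro r
      have := Finset.eq_univ_of_card (Finset.univ.filter fun r : Fin chevE8.nroots =>
        fv ((d : ZMod 8) • f) (r : ℕ) = 0) (by rw [Fintype.card_fin]; exact hall)
      have hm : r ∈ (Finset.univ : Finset (Fin chevE8.nroots)) := Finset.mem_univ r
      rw [← this] at hm
      exact (Finset.mem_filter.1 hm).2
    have := hr ((chevRel certE8 M).sroot j)
    rwa [show fv ((d : ZMod 8) • f) (((chevRel certE8 M).sroot j : Fin chevE8.nroots) : ℕ) = ((d : ZMod 8) • f) j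
      from E8SL2.fv_simple _ j] at this
  · have h1 := eq_one_of_smul_eq_zero hζ hf hd
    rw [hh, conj_pow, mul_inv_eq_one, mul_eq_left, ← map_pow] at h1
    exact groupMap_injective (κ.comp ι) (h1.trans (map_one _).symm)
  · obtain ⟨g, hg⟩ := isConj_iff.1 hc
    have hconj : (Y * groupMap chevE8 (κ.comp ι) g * Y⁻¹) * h * (Y * groupMap chevE8 (κ.comp ι) g * Y⁻¹)⁻¹ = h ^ 5 := by
      rw [hh, conj_pow, ← map_pow, ← hg]
      simp only [map_mul, map_inv]
      group
    have h1 := finrank_eig_exp hζ hf 1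
    have h5 := finrank_eig_exp hζ (hasExp_pow hζ hf 5) 1
    rw [← hconj, finrank_eig_conj, h1, if_neg (by decide), zero_add, zero_add] at h5
    refine h5.trans (congrArg Finset.card (Finset.filter_congr fun r _ => ?_))
    rw [E8SL2.fv_smul, five_mul_eq_one]

/-- The fixed spaces of an element of order four and of its square. -/
theorem fdim_four (hF : Odd (Fintype.card F)) {x : ↥(chevE8.group F)} (hx : x ^ 4 = 1) (hx2 : x ^ 2 ≠ 1) :
    (fdim (rep chevE8 F (x ^ 2)) = 120 ∧ fdim (rep chevE8 F x) ∈ [60, 64, 92]) ∨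
      (fdim (rep chevE8 F (x ^ 2)) = 136 ∧ fdim (rep chevE8 F x) ∈ [66, 70, 82, 134]) := by
  obtain ⟨f, hd, hone, -⟩ := exists_functional_eight hF (x := x)
    (by rw [show 8 = 4 * 2 from rfl, pow_mul, hx, one_pow])
  have h4 := (hone 4).1 hx
  obtain ⟨g, rfl⟩ : ∃ g : Fin 8 → ZMod 8, f = (2 : ZMod 8) • g := by
    have key : ∀ a : ZMod 8, ((4 : ℕ) : ZMod 8) * a = 0 → ∃ b, a = 2 * b := by decide
    choose g hg using fun j => key (f j) (congrFun h4 j)
    exact ⟨g, funext fun j => hg j⟩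
  have hne : (4 : ZMod 8) • g ≠ 0 := fun h => hx2 ((hone 2).2 (by
    rw [smul_smul, show ((2 : ℕ) : ZMod 8) * 2 = 4 from by decide, h]))
  have e1 := hd 1
  have e2 := hd 2
  rw [pow_one, Nat.cast_one, one_smul] at e1
  rw [smul_smul, show ((2 : ℕ) : ZMod 8) * 2 = 4 from by decide] at e2
  rcases four_options hne with ⟨h1, h2, -⟩ | ⟨h1, h2⟩
  · refine Or.inl ⟨by omega, ?_⟩
    simp only [List.mem_cons, List.not_mem_nil, or_false] at h2 ⊢
    omega
  · refine Or.inr ⟨by omega, ?_⟩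
    simp only [List.mem_cons, List.not_mem_nil, or_false] at h2 ⊢
    omega

/-- The fixed space of an element of order eight whose square fixes 64 dimensions. -/
theorem fdim_eight (hF : Odd (Fintype.card F)) {x : ↥(chevE8.group F)} (hx : x ^ 8 = 1)
    (h4 : fdim (rep chevE8 F (x ^ 4)) = 120) (h2 : fdim (rep chevE8 F (x ^ 2)) = 64) :
    fdim (rep chevE8 F x) ∈ [32, 34, 40, 50, 64] ∧ (IsConj x (x ^ 5) → fdim (rep chevE8 F x) = 32) := by
  obtain ⟨f, hd, -, hc⟩ := exists_functional_eight hF hx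
  have e1 := hd 1
  have e2 := hd 2
  have e4 := hd 4
  rw [pow_one, Nat.cast_one, one_smul] at e1
  rw [Nat.cast_ofNat] at e2 e4
  obtain ⟨hmem, hsym⟩ := eight_options (f := f) (by omega) (by omega)
  simp only [List.mem_cons, List.not_mem_nil, or_false] at hmem ⊢
  refine ⟨by omega, fun hcj => ?_⟩
  have := hsym (hc hcj)
  omega

end CfsgLib.Known.E8Sub
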