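import Cfsg.Agent.Lib.Known.E8SL2.Setup
import Cfsg.Agent.Lib.Known.CyclicTorus.Weyl
import Mathlib.LinearAlgebra.Matrix.Charpoly.Eigs
import Mathlib.Data.Nat.Totient

/-!
# The group of type E8 over three elements has no subgroup PSL(2, 41)

An element of order 41 of such a subgroup, moved into the torus over a large field, would be scaled by an
element of multiplicative order 40 by the Weyl group; no matrix of finite order in degree eight has such an
eigenvalue, as `φ 40 > 8`.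
-/

set_option autoImplicit false
set_option maxRecDepth 20000
set_option linter.style.haveILetI false

namespace CfsgLib.Known.E8Sub

open Cfsg.Lie (chevE8)
open CfsgLib.Lie.Chev hiding monP
open CfsgLib.Known.AltE6 (chi monMatrix monMatrix_mul monMatrix_inj monP exists_monMatrix)
open CfsgLib.Known.E8SL2 (fv HasExp mat_pow exists_exp)
open CfsgLib.Known.CyclicTorus (wMat vecMul_wMat cvec cvec_sroot wMat_one wMat_pow)
open CfsgLib.Known.ChevFixed (groupMap groupMap_injective)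
open Polynomial
open scoped Matrix

/-- The eigenvalues modulo a prime of an integer matrix of finite order come from cyclotomic polynomials of
small degree. -/
theorem not_eigen_of_finite_order {n : ℕ} {A : Matrix (Fin n) (Fin n) ℤ} {k : ℕ} (hk : 0 < k) (hA : A ^ k = 1)
    {l m : ℕ} [Fact l.Prime] (hm : n < m.totient) {c : ZMod l} (hc : orderOf c = m) {v : Fin n → ZMod l}
    (hv : A.map (Int.castRingHom (ZMod l)) *ᵥ v = c • v) : v = 0 := by
  by_contra hv0
  have hroot : (A.charpoly.map (Int.castRingHom (ZMod l))).IsRoot c := by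
    rw [← Matrix.charpoly_map, ← Matrix.mem_spectrum_iff_isRoot_charpoly, ← Matrix.spectrum_toLin']
    refine Module.End.HasEigenvalue.mem_spectrum
      (Module.End.hasEigenvalue_of_hasEigenvector (x := v) ⟨Module.End.mem_eigenspace_iff.2 ?_, hv0⟩)
    rw [Matrix.toLin'_apply, hv]
  -- the complex roots
  obtain ⟨B, hB⟩ : ∃ B : Matrix (Fin n) (Fin n) ℂ, B = A.map (Int.castRingHom ℂ) := ⟨_, rfl⟩
  have hBk : B ^ k = 1 := by rw [hB, ← RingHom.mapMatrix_apply, ← map_pow, hA, map_one]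
  have hcp : A.charpoly.map (Int.castRingHom ℂ) = B.charpoly := by rw [hB, Matrix.charpoly_map]
  have hord : ∀ z ∈ B.charpoly.roots, (orderOf z).totient ≤ n ∧ z ^ orderOf z = 1 ∧ 0 < orderOf z := by
    intro z hz
    have hz' : B.charpoly.IsRoot z := (Polynomial.mem_roots (B.charpoly_monic.ne_zero)).1 hz
    have hzk : z ^ k = 1 := by
      have hs : z ∈ spectrum ℂ B := Matrix.mem_spectrum_iff_isRoot_charpoly.2 hz'
      have h1 : z ^ k ∈ spectrum ℂ (B ^ k) := spectrum.pow_mem_pow B k hs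
      rw [hBk, spectrum.mem_iff, ← (algebraMap ℂ (Matrix (Fin n) (Fin n) ℂ)).map_one, ← map_sub] at h1
      by_contra h0
      exact h1 ((IsUnit.mk0 _ (sub_ne_zero.2 h0)).map _)
    have hpos : 0 < orderOf z := orderOf_pos_iff.2 (isOfFinOrder_iff_pow_eq_one.2 ⟨k, hk, hzk⟩)
    refine ⟨?_, pow_orderOf_eq_one z, hpos⟩
    have hmin := Polynomial.cyclotomic_eq_minpoly (IsPrimitiveRoot.orderOf z) hpos
    have hdvd : Polynomial.cyclotomic (orderOf z) ℤ ∣ A.charpoly := by
      rw [hmin]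
      refine minpoly.isIntegrallyClosed_dvd (⟨A.charpoly, A.charpoly_monic, ?_⟩) ?_
      · rw [← Polynomial.eval_map, show algebraMap ℤ ℂ = Int.castRingHom ℂ from rfl, hcp]; exact hz'
      · rw [Polynomial.aeval_def, ← Polynomial.eval_map, show algebraMap ℤ ℂ = Int.castRingHom ℂ from rfl, hcp]
        exact hz'
    have hle := Polynomial.natDegree_le_of_dvd hdvd A.charpoly_monic.ne_zero
    rwa [Polynomial.natDegree_cyclotomic, A.charpoly_natDegree_eq_dim, Fintype.card_fin] at hle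
  -- the product over the roots
  obtain ⟨P, hP⟩ : ∃ P : ℤ[X], P = (B.charpoly.roots.map fun z => (X : ℤ[X]) ^ orderOf z - 1).prod := ⟨_, rfl⟩
  have hdvd : A.charpoly ∣ P := by
    refine (Polynomial.map_dvd_map (Int.castRingHom ℂ) Int.cast_injective A.charpoly_monic).1 ?_
    rw [hcp, hP, Polynomial.map_multiset_prod, Multiset.map_map]
    nth_rw 1 [(IsAlgClosed.splits B.charpoly).eq_prod_roots_of_monic B.charpoly_monic]
    refine Multiset.prod_dvd_prod_of_dvd _ _ fun z hz => ?_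
    simp only [Function.comp_apply, Polynomial.map_sub, Polynomial.map_pow, Polynomial.map_X, Polynomial.map_one]
    rw [Polynomial.dvd_iff_isRoot]
    simp [(hord z hz).2.1]
  have hP0 : (P.map (Int.castRingHom (ZMod l))).eval c = 0 := hroot.dvd (Polynomial.map_dvd _ hdvd)
  rw [hP, Polynomial.map_multiset_prod, Polynomial.eval_multiset_prod, Multiset.prod_eq_zero_iff,
    Multiset.map_map, Multiset.map_map, Multiset.mem_map] at hP0
  obtain ⟨z, hz, he⟩ := hP0
  simp [sub_eq_zero] at he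
  have hmd : m ∣ orderOf z := hc ▸ orderOf_dvd_of_pow_eq_one he
  have h1 := Nat.le_of_dvd (Nat.totient_pos.2 (hord z hz).2.2) (Nat.totient_dvd_of_dvd hmd)
  exact absurd ((h1.trans (hord z hz).1)) (not_le.2 hm)

variable {K : Type*} [Field K] [Fintype K]

omit [Fintype K] in
/-- An element conjugating an element of the torus into a power scales its exponents through the Weyl group. -/
theorem exists_ns_of_conj [Finite K] {M : ℕ} [NeZero M] {ζ : Kˣ} (hζ : orderOf ζ = M)
    {h γ : ↥(chevE8.group K)} (hh : h ∈ (chevRel certE8 K).HS) {f : Fin 8 → ZMod M} (hf : HasExp ζ h f) {k : ℕ}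
    (hγ : γ * h * γ⁻¹ = h ^ k) :
    ∃ n : (chevRel certE8 K).NS, ∀ r : Fin chevE8.nroots,
      fv f ((chevRel certE8 K).nsPerm n r : ℕ) = (k : ZMod M) * fv f (r : ℕ) := by
  classical
  haveI := Fintype.ofFinite K
  obtain ⟨b, hb, n, u, hu, e⟩ := (chevRel certE8 K).exists_bnu γ
  have hn := AltTorus.conj_eq_of_bnu (chevRel certE8 K) hb hu e hh (by rw [hγ]; exact pow_mem hh k)
  rw [hγ] at hn
  have hn' : (n : ↥(chevE8.group K)) * h = h ^ k * n := by rw [← hn]; group
  obtain ⟨a, -, ha, -⟩ := exists_monMatrix K certE8 AltE8.symE8 n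
  have e2 := congrArg (chevRel certE8 K).mat hn'
  rw [(chevRel certE8 K).mat_mul, (chevRel certE8 K).mat_mul, mat_pow hf k, hf, ha,
    monMatrix_mul _ ((chevRel certE8 K).isLin_nsPerm n), monMatrix_mul _ (chevRel certE8 K).isLin_one] at e2
  have h1 := congrFun (monMatrix_inj _ e2).2
  refine ⟨n⁻¹, fun r => ?_⟩
  obtain ⟨s, rfl⟩ : ∃ s, (chevRel certE8 K).nsPerm n s = r := ((chevRel certE8 K).nsPerm n).surjective r
  rw [map_inv, Equiv.Perm.inv_def, Equiv.symm_apply_apply]
  have h2 := h1 s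
  simp only [Equiv.Perm.one_apply] at h2
  rw [mul_comm] at h2
  have h4 := mul_right_cancel h2
  rw [← pow_mul, pow_eq_pow_iff_modEq, hζ, ← ZMod.natCast_eq_natCast_iff, Nat.cast_mul, ZMod.natCast_zmod_val,
    ZMod.natCast_zmod_val] at h4
  rw [h4, mul_comm]

omit [Fintype K] in
/-- No element of the Weyl group scales a nonzero functional modulo `l` by an element of large order. -/
theorem eq_zero_of_scaled [Finite K] {l m : ℕ} [Fact l.Prime] (hm : 8 < m.totient) {c : ZMod l} (hc : orderOf c = m)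
    {f : Fin 8 → ZMod l} (n : (chevRel certE8 K).NS)
    (hn : ∀ r : Fin chevE8.nroots, fv f ((chevRel certE8 K).nsPerm n r : ℕ) = c * fv f (r : ℕ)) : f = 0 := by
  haveI := Fintype.ofFinite K
  obtain ⟨R, hR⟩ : ∃ R, R = chevRel certE8 K := ⟨_, rfl⟩
  subst hR
  obtain ⟨π, hπ⟩ : ∃ π, π = (chevRel certE8 K).nsPerm n := ⟨_, rfl⟩
  have hlin : (chevRel certE8 K).IsLin π := hπ ▸ (chevRel certE8 K).isLin_nsPerm n
  have hk : 0 < orderOf π := orderOf_pos π
  have hA : wMat (chevRel certE8 K) π ^ orderOf π = 1 := by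
    rw [← wMat_pow _ hlin, pow_orderOf_eq_one, wMat_one]
  refine not_eigen_of_finite_order hk hA hm hc ?_
  funext i
  have h := hn ((chevRel certE8 K).sroot i)
  rw [← hπ] at h
  have e : fv f ((chevRel certE8 K).sroot i : ℕ) = f i := E8SL2.fv_simple f i
  rw [e] at h
  show _ = c * f i
  rw [← h]
  rfl

theorem order_thirty : ((3 * 10 : ℕ) : ZMod 41) ^ 40 = 1 ∧ ∀ m < 40, 0 < m → ((3 * 10 : ℕ) : ZMod 41) ^ m ≠ 1 := by
  decide +kernel

theorem no_psl_41 {F : Type*} [Field F] [Fintype F] (hF : Fintype.card F = 41)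
    {H : Subgroup ↥(chevE8.group (ZMod 3))} (e : ↥H ≃* Matrix.ProjectiveSpecialLinearGroup (Fin 2) F) : False := by
  classical
  haveI : Fact (Nat.Prime 3) := ⟨Nat.prime_three⟩
  haveI : Fact (Nat.Prime 41) := ⟨by norm_num⟩
  haveI : CharP F 41 := by
    obtain ⟨p, hp⟩ := CharP.exists F
    obtain ⟨j, hp', hj⟩ := @FiniteField.card F _ _ p hp
    obtain rfl : p = 41 := (Nat.prime_dvd_prime_iff_eq hp' (by norm_num)).1
      (show p ∣ 41 from hF ▸ hj ▸ dvd_pow_self p j.pos.ne')
    exact hp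
  letI : Fintype (GaloisField 3 8) := Fintype.ofFinite _
  have hK : Fintype.card (GaloisField 3 8) = 6561 := by
    rw [← Nat.card_eq_fintype_card, GaloisField.card 3 8 (by norm_num)]; norm_num
  obtain ⟨τ, hτ⟩ : ∃ τ : GaloisField 3 8 ≃+* GaloisField 3 8, ∀ a, τ a = a ^ 3 :=
    ⟨frobeniusEquiv _ 3, fun a => rfl⟩
  -- the embedding
  obtain ⟨φ, hφ, hfix⟩ : ∃ φ : Matrix.ProjectiveSpecialLinearGroup (Fin 2) F →* ↥(chevE8.group (GaloisField 3 8)),
      Function.Injective φ ∧ ∀ x, fieldAut chevE8 τ (φ x) = φ x := by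
    obtain ⟨j⟩ : Nonempty (ZMod 3 →+* GaloisField 3 8) := ⟨ZMod.castHom dvd_rfl _⟩
    refine ⟨(groupMap chevE8 j).comp (H.subtype.comp e.symm.toMonoidHom),
      ((groupMap_injective j).comp H.subtype_injective).comp e.symm.injective, fun x => ?_⟩
    have hτj : ∀ a : ZMod 3, τ (j a) = j a := fun a => by rw [hτ, ← map_pow, ZMod.pow_card]
    exact Subtype.ext (Units.ext (Matrix.ext fun a b => hτj _))
  -- the two elements
  obtain ⟨u, hu⟩ : ∃ u : Matrix.SpecialLinearGroup (Fin 2) F, u.1 = !![1, 1; 0, 1] :=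
    ⟨⟨!![1, 1; 0, 1], by simp [Matrix.det_fin_two_of]⟩, rfl⟩
  have h16 : (16 : F) ≠ 0 := by
    rw [show (16 : F) = ((16 : ℕ) : F) by norm_num, Ne, CharP.cast_eq_zero_iff F 41]; norm_num
  obtain ⟨y, hy⟩ : ∃ y : Matrix.SpecialLinearGroup (Fin 2) F, y.1 = !![16, 0; 0, 16⁻¹] :=
    ⟨⟨!![16, 0; 0, 16⁻¹], by simp [Matrix.det_fin_two_of, h16]⟩, rfl⟩
  have hupow : ∀ i : ℕ, (u ^ i).1 = !![1, (i : F); 0, 1] := by
    intro i
    induction i with
    | zero => simp [Matrix.one_fin_two]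
    | succ i ih => rw [pow_succ, Matrix.SpecialLinearGroup.coe_mul, ih, hu]; simp [add_comm]
  have hu41 : u ^ 41 = 1 := Subtype.ext (by
    rw [hupow, CharP.cast_eq_zero F 41, Matrix.SpecialLinearGroup.coe_one, Matrix.one_fin_two])
  have hyu : y * u = u ^ 10 * y := Subtype.ext (by
    rw [Matrix.SpecialLinearGroup.coe_mul, Matrix.SpecialLinearGroup.coe_mul, hupow, hu, hy]
    have h10 : (16 : F) * 16 = 10 := by
      have h41 : (41 : F) = 0 := by
        rw [show (41 : F) = ((41 : ℕ) : F) by norm_num]; exact CharP.cast_eq_zero F 41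
      linear_combination (6 : F) * h41
    simp
    field_simp
    linear_combination h10)
  obtain ⟨ψ, hψ⟩ : ∃ ψ, ψ = φ.comp (QuotientGroup.mk' (Subgroup.center (Matrix.SpecialLinearGroup (Fin 2) F))) :=
    ⟨_, rfl⟩
  have hu1 : ψ u ≠ 1 := fun h => by
    rw [hψ, MonoidHom.comp_apply, ← map_one φ] at h
    have h1 : u ∈ Subgroup.center (Matrix.SpecialLinearGroup (Fin 2) F) := (QuotientGroup.eq_one_iff u).1 (hφ h)
    obtain ⟨r, -, hr⟩ := Matrix.SpecialLinearGroup.mem_center_iff.1 h1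
    have := congrFun (congrFun hr 0) 1
    simp [hu] at this
  obtain ⟨x, hx⟩ : ∃ x, x = ψ u := ⟨_, rfl⟩
  have hx41 : x ^ 41 = 1 := by rw [hx, ← map_pow, hu41, map_one]
  have hfx : ∀ g, fieldAut chevE8 τ (ψ g) = ψ g := fun g => by rw [hψ, MonoidHom.comp_apply]; exact hfix _
  have hyx : ψ y * x * (ψ y)⁻¹ = x ^ 10 := by
    rw [hx, ← map_mul, ← map_inv, ← map_mul, hyu, ← map_pow, mul_assoc, mul_inv_cancel, mul_one]
  obtain ⟨ζ, hζ⟩ : ∃ ζ : (GaloisField 3 8)ˣ, orderOf ζ = 41 := E8SL2.exists_orderOf (by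
    rw [Nat.card_eq_fintype_card, Fintype.card_units, hK]; norm_num)
  haveI : Finite ↥(chevE8.group (GaloisField 3 8)) := (chevRel certE8 _).Finite_of_field
  -- into the torus
  obtain ⟨g, hg⟩ := AltTorus.exists_conj_into
    (E8SL2.not_dvd_index_HS (K := GaloisField 3 8) (l := 41) (by rw [hK]; norm_num) (by norm_num) (by norm_num))
    (AltTorus.isPGroup_zpowers (l := 41) hx41)
  obtain ⟨h, hh⟩ : ∃ h, h = g * x * g⁻¹ := ⟨_, rfl⟩
  have hhS : h ∈ (chevRel certE8 (GaloisField 3 8)).HS := hh ▸ hg x (Subgroup.mem_zpowers x)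
  obtain ⟨f, hf⟩ := exists_exp hζ hhS (by rw [hh, conj_pow, hx41, mul_one, mul_inv_cancel])
  have hne : f ≠ 0 := fun h0 => hu1 (by
    have := E8SL2.eq_one_of_smul_eq_zero hζ hf (d := 1) (by rw [h0, smul_zero])
    rw [pow_one, hh, mul_inv_eq_one, mul_eq_left] at this
    exact hx ▸ this)
  -- the conjugating element
  have h3 : fieldAut chevE8 τ h = h ^ 3 := by
    obtain ⟨c, hc⟩ := (chevRel certE8 (GaloisField 3 8)).torusHom_surjective ⟨h, hhS⟩
    have e : (((chevRel certE8 (GaloisField 3 8)).torusHom c : (chevRel certE8 (GaloisField 3 8)).HS) :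
      ↥(chevE8.group (GaloisField 3 8))) = h := congrArg Subtype.val hc
    rw [← e, ChevFixed.fieldAut_torusHom certE8 τ, ← Subgroup.coe_pow, ← map_pow]
    refine congrArg (fun c => (((chevRel certE8 (GaloisField 3 8)).torusHom c :
      (chevRel certE8 (GaloisField 3 8)).HS) : ↥(chevE8.group (GaloisField 3 8)))) (funext fun i => Units.ext ?_)
    simp [hτ]
  obtain ⟨γ, hγ⟩ : ∃ γ, γ = fieldAut chevE8 τ g * ψ y * g⁻¹ := ⟨_, rfl⟩
  have hxh : ∀ i : ℕ, fieldAut chevE8 τ g * x ^ i * (fieldAut chevE8 τ g)⁻¹ = h ^ (3 * i) := by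
    intro i
    rw [pow_mul, ← h3, ← map_pow, hh, conj_pow, map_mul, map_mul, map_inv, map_pow, hx, hfx]
  have hγh : γ * h * γ⁻¹ = h ^ (3 * 10) := by
    rw [← hxh 10, ← hyx, hγ, hh]; group
  obtain ⟨n, hn⟩ := exists_ns_of_conj hζ hhS hf hγh
  refine hne (eq_zero_of_scaled (m := 40) (by decide) (c := ((3 * 10 : ℕ) : ZMod 41)) ?_ n hn)
  rw [orderOf_eq_iff (by norm_num)]
  exact order_thirty

end CfsgLib.Known.E8Sub
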