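import Cfsg.Agent.Lib.Known.E8SL2.Solve
import Cfsg.Agent.Lib.Known.E8Sub.PackData

/-!
# Counting the roots killed by a functional modulo eight with packed integers
-/

set_option autoImplicit false
set_option maxRecDepth 20000

namespace CfsgLib.Known.E8Sub

open CfsgLib.Known.E8SL2 (coT coT_ok)

/-- A list of fields of twelve bits as a number. -/
def packL (v : List ℕ) : ℕ := v.foldr (fun a N => a + 4096 * N) 0

/-- The indicator of the fields not divisible by eight. -/
def nzP (N O : ℕ) : ℕ := (N ||| N >>> 1 ||| N >>> 2) &&& O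

/-- The combination of the packed columns. -/
def plP (l : List ℕ) : ℕ := (List.zipWith (fun a P => a % 8 * P) l colP).sum

/-- The number of roots with a given value, by packing. -/
def cntP (l : List ℕ) (x : ℕ) : ℕ := 240 - nzP (plP l + (8 - x % 8) * onesP) onesP % 4095

theorem packL_cons (a : ℕ) (v : List ℕ) : packL (a :: v) = a + 4096 * packL v := rfl

theorem testBit_cons {a : ℕ} (ha : a < 4096) (M i : ℕ) :
    (a + 4096 * M).testBit i = if i < 12 then a.testBit i else M.testBit (i - 12) := by
  rw [Nat.add_comm, show 4096 = 2 ^ 12 from rfl, Nat.testBit_two_pow_mul_add M (by exact ha)]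

theorem nzP_pack : ∀ v : List ℕ, (∀ a ∈ v, a < 4096) →
    nzP (packL v) (packL (v.map fun _ => 1)) = packL (v.map fun a => if a % 8 = 0 then 0 else 1)
  | [], _ => by simp [nzP, packL]
  | a :: v, h => by
    have ha := h a (List.mem_cons_self ..)
    have ih := nzP_pack v fun b hb => h b (List.mem_cons_of_mem _ hb)
    rw [List.map_cons, List.map_cons, packL_cons, packL_cons, packL_cons, ← ih, nzP, nzP]
    refine Nat.eq_of_testBit_eq fun i => ?_
    simp only [Nat.testBit_and, Nat.testBit_or, Nat.testBit_shiftRight,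
      testBit_cons ha, testBit_cons (show 1 < 4096 by norm_num)]
    rw [testBit_cons (show (if a % 8 = 0 then 0 else 1) < 4096 by split <;> norm_num)]
    by_cases hi : i < 12
    · rw [if_pos hi, if_pos hi, if_pos hi]
      rcases Nat.eq_zero_or_pos i with h0 | h0
      · subst h0
        have key : ∀ b < 8, (Nat.testBit b 0 || Nat.testBit b 1 || Nat.testBit b 2) = !decide (b = 0) := by decide
        rw [if_pos (by norm_num : (1 + 0 : ℕ) < 12), if_pos (by norm_num : (2 + 0 : ℕ) < 12)]
        have e : ∀ j < 3, a.testBit j = (a % 8).testBit j := fun j hj => by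
          rw [show 8 = 2 ^ 3 from rfl, Nat.testBit_mod_two_pow]; simp [hj]
        rw [e 0 (by norm_num), e (1 + 0) (by norm_num), e (2 + 0) (by norm_num), key _ (Nat.mod_lt _ (by norm_num))]
        by_cases hz : a % 8 = 0 <;> simp [hz]
      · have h1 : Nat.testBit 1 i = false := Nat.testBit_lt_two_pow (Nat.one_lt_two_pow (by omega))
        rw [h1, Bool.and_false]
        split
        · simp
        · exact h1.symm
    · simp only [if_neg hi, show ¬ (1 + i < 12) by omega, show ¬ (2 + i < 12) by omega, if_false,
        show 1 + i - 12 = 1 + (i - 12) by omega, show 2 + i - 12 = 2 + (i - 12) by omega, Nat.testBit_and,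
        Nat.testBit_or, Nat.testBit_shiftRight]

theorem packL_mod : ∀ v : List ℕ, packL v % 4095 = v.sum % 4095
  | [] => rfl
  | a :: v => by
    rw [packL_cons, List.sum_cons, Nat.add_mod, Nat.mul_mod, packL_mod v, show 4096 % 4095 = 1 from rfl, one_mul,
      Nat.mod_mod, ← Nat.add_mod]

theorem packL_map_add {α : Type*} (f g : α → ℕ) : ∀ v : List α,
    packL (v.map fun a => f a + g a) = packL (v.map f) + packL (v.map g)
  | [] => rfl
  | a :: v => by simp only [List.map_cons, packL_cons, packL_map_add f g v]; ring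

theorem packL_map_mul {α : Type*} (c : ℕ) (f : α → ℕ) : ∀ v : List α,
    packL (v.map fun a => c * f a) = c * packL (v.map f)
  | [] => rfl
  | a :: v => by simp only [List.map_cons, packL_cons, packL_map_mul c f v]; ring

theorem packL_map_sum {α : Type*} : ∀ {n : ℕ} (f : Fin n → α → ℕ) (v : List α),
    packL (v.map fun a => ∑ j, f j a) = ∑ j, packL (v.map (f j))
  | 0, f, v => by
    simp only [Finset.univ_eq_empty, Finset.sum_empty]
    induction v with
    | nil => rfl
    | cons a v ih => simp only [List.map_cons, packL_cons, ih, Nat.mul_zero, Nat.add_zero]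
  | n + 1, f, v => by
    simp only [Fin.sum_univ_succ, packL_map_add, packL_map_sum]

theorem colP_ok : colP.length = 8 ∧ onesP = packL (coT.map fun _ => 1) ∧
    ∀ j : Fin 8, colP.getD (j : ℕ) 0 = packL (coT.map fun c => (c.getD (j : ℕ) 0 + 2) % 8) := by decide +kernel

/-- The value of a list at a row. -/
def rowVal (l : List ℕ) (c : List ℕ) : ℕ := ∑ j : Fin 8, l.getD (j : ℕ) 0 % 8 * ((c.getD (j : ℕ) 0 + 2) % 8)

theorem rowVal_le (l c : List ℕ) : rowVal l c ≤ 392 :=
  (Finset.sum_le_card_nsmul Finset.univ _ 49 fun j _ =>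
    Nat.mul_le_mul (Nat.le_of_lt_succ (Nat.mod_lt _ (by norm_num : 8 > 0)))
      (Nat.le_of_lt_succ (Nat.mod_lt _ (by norm_num : 8 > 0)))).trans (by simp)

attribute [local irreducible] colP onesP coT packL

theorem cntP_eq {l : List ℕ} (hl : l.length = 8) (x : ℕ) :
    cntP l x = coT.countP fun c => decide ((rowVal l c + (8 - x % 8)) % 8 = 0) := by
  have hp : plP l = packL (coT.map (rowVal l)) := by
    have e : plP l = ∑ j : Fin 8, l.getD (j : ℕ) 0 % 8 * colP.getD (j : ℕ) 0 := by
      rw [plP]
      exact E8SL2.zipWith_sum (fun b P => b % 8 * P) 0 l colP hl colP_ok.1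
    rw [e, show coT.map (rowVal l) = coT.map fun c => ∑ j : Fin 8, l.getD (j : ℕ) 0 % 8 * ((c.getD (j : ℕ) 0 + 2) % 8)
      from rfl, packL_map_sum]
    exact Finset.sum_congr rfl fun j _ => by rw [packL_map_mul, colP_ok.2.2 j]
  obtain ⟨v, hv⟩ : ∃ v, v = coT.map fun c => rowVal l c + (8 - x % 8) := ⟨_, rfl⟩
  have hN : plP l + (8 - x % 8) * onesP = packL v := by
    rw [hv, packL_map_add, hp]
    refine congrArg (packL (coT.map (rowVal l)) + ·) ?_
    rw [colP_ok.2.1, ← packL_map_mul]
    simp only [Nat.mul_one]
  rw [cntP, hN, show onesP = packL (v.map fun _ => 1) by rw [hv, List.map_map]; exact colP_ok.2.1,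
    nzP_pack v fun a ha => by
      rw [hv, List.mem_map] at ha
      obtain ⟨c, -, rfl⟩ := ha
      have := rowVal_le l c
      omega,
    packL_mod, hv, List.map_map]
  have hsum : ∀ w : List (List ℕ), (w.map ((fun a => if a % 8 = 0 then 0 else 1) ∘ fun c => rowVal l c + (8 - x % 8))).sum +
      (w.countP fun c => decide ((rowVal l c + (8 - x % 8)) % 8 = 0)) = w.length := by
    intro w
    induction w with
    | nil => rfl
    | cons c w ih =>
      rw [List.map_cons, List.sum_cons, List.countP_cons, List.length_cons, Function.comp_apply]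
      simp only [decide_eq_true_eq]
      split <;> omega
  have := hsum coT
  rw [coT_ok.1] at this
  rw [Nat.mod_eq_of_lt (by omega)]
  omega

end CfsgLib.Known.E8Sub
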