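/-!
# Words moving the functionals of elements of two-power order to representatives
-/

set_option autoImplicit false
set_option maxRecDepth 20000

namespace CfsgLib.Known.E8Sub

/-- The images of the simple roots under the simple reflections. -/
def wT : List (List Nat) := [[77, 141, 163, 130, 126, 123, 121, 120], [162, 98, 135, 142, 126, 123, 121, 120], [163, 141, 104, 136, 126, 123, 121, 120], [162, 142, 136, 109, 131, 123, 121, 120], [162, 141, 135, 131, 113, 127, 121, 120], [162, 141, 135, 130, 127, 116, 124, 120], [162, 141, 135, 130, 126, 124, 118, 122], [162, 141, 135, 130, 126, 123, 122, 119]]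

/-- The two classes of functionals modulo two. -/
def repA : List Nat := [1, 0, 0, 0, 0, 0, 0, 0]

/-- The second class of functionals modulo two. -/
def repB : List Nat := [0, 0, 0, 0, 0, 0, 0, 1]

/-- The class of functionals modulo four. -/
def rep64 : List Nat := [1, 0, 2, 0, 0, 0, 0, 0]

/-- Words for the functionals modulo two. -/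
def words2 : List (List Nat) := [
  [],
  [],
  [1,3,4,5,6,7,2,3,4,5,6,1,3,4,5,2,3,4,1,3,2,0],
  [0,2,3,4,5,6,7],
  [2,3,4,5,6,7,1,3,4,5,6,2,3,4,5,1,3,4,2,3,0,2,1,3,4,5,6,7],
  [0],
  [1,3,4,5,6,7],
  [2,3,4,5,6,7],
  [3,4,5,6,7,2,3,4,5,6,0,2,3,4,5,1,3,4,2,3,0,2,1,3,4,5,6,7],
  [3,4,5,6,7,1,3,4,5,6,0,2,3,4,5,1,3,4,2,3,0,2,1,3,4,5,6,7],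
  [3,4,5,6,7,2,3,4,5,6,1,3,4,5,2,3,4,1,3,2,0],
  [0,2,1,3,4,5,6,7],
  [2,0],
  [3,4,5,6,7,1,3,4,5,6,2,3,4,5,1,3,4,2,3,0,2,1,3,4,5,6,7],
  [3,4,5,6,7],
  [2,1,3,4,5,6,7],
  [4,5,6,7,3,4,5,6,2,3,4,5,0,2,3,4,1,3,2,0],
  [4,5,6,7,3,4,5,6,1,3,4,5,0,2,3,4,1,3,2,0],
  [1,3,2,0],
  [4,5,6,7,3,4,5,6,2,3,4,5,1,3,4,2,3,0,2,1,3,4,5,6,7],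
  [2,3,0,2,1,3,4,5,6,7],
  [4,5,6,7,3,4,5,6,1,3,4,5,2,3,4,1,3,2,0],
  [4,5,6,7,2,1,3,4,5,6,0,2,3,4,5,1,3,4,2,3,0,2,1,3,4,5,6,7],
  [4,5,6,7,3,4,5,6,0,2,3,4,5,1,3,4,2,3,0,2,1,3,4,5,6,7],
  [4,5,6,7],
  [3,2,1,3,4,5,6,7],
  [3,2,0],
  [4,5,6,7,1,3,4,5,6,2,3,4,5,1,3,4,2,3,0,2,1,3,4,5,6,7],
  [4,5,6,7,2,3,4,5,6,1,3,4,5,2,3,4,1,3,2,0],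
  [3,0,2,1,3,4,5,6,7],
  [4,5,6,7,2,3,4,5,6,0,2,3,4,5,1,3,4,2,3,0,2,1,3,4,5,6,7],
  [4,5,6,7,1,3,4,5,6,0,2,3,4,5,1,3,4,2,3,0,2,1,3,4,5,6,7],
  [5,4,3,2,1,3,4,5,0,2,3,4,1,3,2,0],
  [0,2,3,4,1,3,2,0],
  [1,3,4,2,3,0,2,1,3,4,5,6,7],
  [5,6,7,4,5,6,3,4,5,2,3,4,1,3,2,0],
  [5,6,7,4,5,6,3,4,5,1,3,4,2,3,0,2,1,3,4,5,6,7],
  [2,3,4,1,3,2,0],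
  [5,6,7,4,5,6,2,1,3,4,5,0,2,3,4,1,3,2,0],
  [5,6,7,4,5,6,3,4,5,0,2,3,4,1,3,2,0],
  [5,6,7,3,2,1,3,4,5,6,0,2,3,4,5,1,3,4,2,3,0,2,1,3,4,5,6,7],
  [5,6,7,4,5,6,0,2,3,4,5,1,3,4,2,3,0,2,1,3,4,5,6,7],
  [3,4,2,3,0,2,1,3,4,5,6,7],
  [5,6,7,4,5,6,1,3,4,5,2,3,4,1,3,2,0],
  [3,4,1,3,2,0],
  [5,6,7,4,5,6,2,3,4,5,1,3,4,2,3,0,2,1,3,4,5,6,7],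
  [5,6,7,4,5,6,2,3,4,5,0,2,3,4,1,3,2,0],
  [5,6,7,4,5,6,1,3,4,5,0,2,3,4,1,3,2,0],
  [5,6,7],
  [4,3,2,1,3,4,5,6,7],
  [4,3,2,0],
  [5,6,7,1,3,4,5,6,2,3,4,5,1,3,4,2,3,0,2,1,3,4,5,6,7],
  [5,6,7,2,3,4,5,6,1,3,4,5,2,3,4,1,3,2,0],
  [4,3,0,2,1,3,4,5,6,7],
  [5,6,7,2,3,4,5,6,0,2,3,4,5,1,3,4,2,3,0,2,1,3,4,5,6,7],
  [5,6,7,1,3,4,5,6,0,2,3,4,5,1,3,4,2,3,0,2,1,3,4,5,6,7],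
  [5,6,7,3,4,5,6,2,3,4,5,0,2,3,4,1,3,2,0],
  [5,6,7,3,4,5,6,1,3,4,5,0,2,3,4,1,3,2,0],
  [4,1,3,2,0],
  [5,6,7,3,4,5,6,2,3,4,5,1,3,4,2,3,0,2,1,3,4,5,6,7],
  [4,2,3,0,2,1,3,4,5,6,7],
  [5,6,7,3,4,5,6,1,3,4,5,2,3,4,1,3,2,0],
  [5,6,7,2,1,3,4,5,6,0,2,3,4,5,1,3,4,2,3,0,2,1,3,4,5,6,7],
  [5,6,7,3,4,5,6,0,2,3,4,5,1,3,4,2,3,0,2,1,3,4,5,6,7],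
  [6,5,4,3,2,1,3,4,5,6,0,2,3,4,5,1,3,4,2,3,0,2,1,3,4,5,6,7],
  [0,2,3,4,5,1,3,4,2,3,0,2,1,3,4,5,6,7],
  [6,7,5,6,4,5,3,4,2,3,0,2,1,3,4,5,6,7],
  [1,3,4,5,2,3,4,1,3,2,0],
  [6,7,5,6,4,5,3,4,1,3,2,0],
  [2,3,4,5,1,3,4,2,3,0,2,1,3,4,5,6,7],
  [2,3,4,5,0,2,3,4,1,3,2,0],
  [1,3,4,5,0,2,3,4,1,3,2,0],
  [6,7,5,6,3,2,1,3,4,5,0,2,3,4,1,3,2,0],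
  [6,7,5,6,4,5,0,2,3,4,1,3,2,0],
  [6,7,5,6,4,5,1,3,4,2,3,0,2,1,3,4,5,6,7],
  [3,4,5,2,3,4,1,3,2,0],
  [3,4,5,1,3,4,2,3,0,2,1,3,4,5,6,7],
  [6,7,5,6,4,5,2,3,4,1,3,2,0],
  [2,1,3,4,5,0,2,3,4,1,3,2,0],
  [3,4,5,0,2,3,4,1,3,2,0],
  [6,7,4,3,2,1,3,4,5,6,0,2,3,4,5,1,3,4,2,3,0,2,1,3,4,5,6,7],
  [6,7,5,6,0,2,3,4,5,1,3,4,2,3,0,2,1,3,4,5,6,7],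
  [4,5,3,4,2,3,0,2,1,3,4,5,6,7],
  [6,7,5,6,1,3,4,5,2,3,4,1,3,2,0],
  [4,5,3,4,1,3,2,0],
  [6,7,5,6,2,3,4,5,1,3,4,2,3,0,2,1,3,4,5,6,7],
  [6,7,5,6,2,3,4,5,0,2,3,4,1,3,2,0],
  [6,7,5,6,1,3,4,5,0,2,3,4,1,3,2,0],
  [3,2,1,3,4,5,0,2,3,4,1,3,2,0],
  [4,5,0,2,3,4,1,3,2,0],
  [4,5,1,3,4,2,3,0,2,1,3,4,5,6,7],
  [6,7,5,6,3,4,5,2,3,4,1,3,2,0],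
  [6,7,5,6,3,4,5,1,3,4,2,3,0,2,1,3,4,5,6,7],
  [4,5,2,3,4,1,3,2,0],
  [6,7,5,6,2,1,3,4,5,0,2,3,4,1,3,2,0],
  [6,7,5,6,3,4,5,0,2,3,4,1,3,2,0],
  [6,7],
  [5,4,3,2,1,3,4,5,6,7],
  [5,4,3,2,0],
  [6,7,1,3,4,5,6,2,3,4,5,1,3,4,2,3,0,2,1,3,4,5,6,7],
  [6,7,2,3,4,5,6,1,3,4,5,2,3,4,1,3,2,0],
  [5,4,3,0,2,1,3,4,5,6,7],
  [6,7,2,3,4,5,6,0,2,3,4,5,1,3,4,2,3,0,2,1,3,4,5,6,7],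
  [6,7,1,3,4,5,6,0,2,3,4,5,1,3,4,2,3,0,2,1,3,4,5,6,7],
  [6,7,3,4,5,6,2,3,4,5,0,2,3,4,1,3,2,0],
  [6,7,3,4,5,6,1,3,4,5,0,2,3,4,1,3,2,0],
  [5,4,1,3,2,0],
  [6,7,3,4,5,6,2,3,4,5,1,3,4,2,3,0,2,1,3,4,5,6,7],
  [5,4,2,3,0,2,1,3,4,5,6,7],
  [6,7,3,4,5,6,1,3,4,5,2,3,4,1,3,2,0],
  [6,7,2,1,3,4,5,6,0,2,3,4,5,1,3,4,2,3,0,2,1,3,4,5,6,7],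
  [6,7,3,4,5,6,0,2,3,4,5,1,3,4,2,3,0,2,1,3,4,5,6,7],
  [4,3,2,1,3,4,5,0,2,3,4,1,3,2,0],
  [5,0,2,3,4,1,3,2,0],
  [5,1,3,4,2,3,0,2,1,3,4,5,6,7],
  [6,7,4,5,6,3,4,5,2,3,4,1,3,2,0],
  [6,7,4,5,6,3,4,5,1,3,4,2,3,0,2,1,3,4,5,6,7],
  [5,2,3,4,1,3,2,0],
  [6,7,4,5,6,2,1,3,4,5,0,2,3,4,1,3,2,0],
  [6,7,4,5,6,3,4,5,0,2,3,4,1,3,2,0],
  [6,7,3,2,1,3,4,5,6,0,2,3,4,5,1,3,4,2,3,0,2,1,3,4,5,6,7],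
  [6,7,4,5,6,0,2,3,4,5,1,3,4,2,3,0,2,1,3,4,5,6,7],
  [5,3,4,2,3,0,2,1,3,4,5,6,7],
  [6,7,4,5,6,1,3,4,5,2,3,4,1,3,2,0],
  [5,3,4,1,3,2,0],
  [6,7,4,5,6,2,3,4,5,1,3,4,2,3,0,2,1,3,4,5,6,7],
  [6,7,4,5,6,2,3,4,5,0,2,3,4,1,3,2,0],
  [6,7,4,5,6,1,3,4,5,0,2,3,4,1,3,2,0],
  [],
  [7,6,5,4,3,2,1,3,4,5,6,7],
  [7,6,5,4,3,2,0],
  [1,3,4,5,6,2,3,4,5,1,3,4,2,3,0,2,1,3,4,5,6,7],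
  [2,3,4,5,6,1,3,4,5,2,3,4,1,3,2,0],
  [7,6,5,4,3,0,2,1,3,4,5,6,7],
  [2,3,4,5,6,0,2,3,4,5,1,3,4,2,3,0,2,1,3,4,5,6,7],
  [1,3,4,5,6,0,2,3,4,5,1,3,4,2,3,0,2,1,3,4,5,6,7],
  [3,4,5,6,2,3,4,5,0,2,3,4,1,3,2,0],
  [3,4,5,6,1,3,4,5,0,2,3,4,1,3,2,0],
  [7,6,5,4,1,3,2,0],
  [3,4,5,6,2,3,4,5,1,3,4,2,3,0,2,1,3,4,5,6,7],
  [7,6,5,4,2,3,0,2,1,3,4,5,6,7],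
  [3,4,5,6,1,3,4,5,2,3,4,1,3,2,0],
  [2,1,3,4,5,6,0,2,3,4,5,1,3,4,2,3,0,2,1,3,4,5,6,7],
  [3,4,5,6,0,2,3,4,5,1,3,4,2,3,0,2,1,3,4,5,6,7],
  [7,6,4,3,2,1,3,4,5,0,2,3,4,1,3,2,0],
  [7,6,5,0,2,3,4,1,3,2,0],
  [7,6,5,1,3,4,2,3,0,2,1,3,4,5,6,7],
  [4,5,6,3,4,5,2,3,4,1,3,2,0],
  [4,5,6,3,4,5,1,3,4,2,3,0,2,1,3,4,5,6,7],
  [7,6,5,2,3,4,1,3,2,0],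
  [4,5,6,2,1,3,4,5,0,2,3,4,1,3,2,0],
  [4,5,6,3,4,5,0,2,3,4,1,3,2,0],
  [3,2,1,3,4,5,6,0,2,3,4,5,1,3,4,2,3,0,2,1,3,4,5,6,7],
  [4,5,6,0,2,3,4,5,1,3,4,2,3,0,2,1,3,4,5,6,7],
  [7,6,5,3,4,2,3,0,2,1,3,4,5,6,7],
  [4,5,6,1,3,4,5,2,3,4,1,3,2,0],
  [7,6,5,3,4,1,3,2,0],
  [4,5,6,2,3,4,5,1,3,4,2,3,0,2,1,3,4,5,6,7],
  [4,5,6,2,3,4,5,0,2,3,4,1,3,2,0],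
  [4,5,6,1,3,4,5,0,2,3,4,1,3,2,0],
  [7,5,4,3,2,1,3,4,5,6,0,2,3,4,5,1,3,4,2,3,0,2,1,3,4,5,6,7],
  [7,6,0,2,3,4,5,1,3,4,2,3,0,2,1,3,4,5,6,7],
  [5,6,4,5,3,4,2,3,0,2,1,3,4,5,6,7],
  [7,6,1,3,4,5,2,3,4,1,3,2,0],
  [5,6,4,5,3,4,1,3,2,0],
  [7,6,2,3,4,5,1,3,4,2,3,0,2,1,3,4,5,6,7],
  [7,6,2,3,4,5,0,2,3,4,1,3,2,0],
  [7,6,1,3,4,5,0,2,3,4,1,3,2,0],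
  [5,6,3,2,1,3,4,5,0,2,3,4,1,3,2,0],
  [5,6,4,5,0,2,3,4,1,3,2,0],
  [5,6,4,5,1,3,4,2,3,0,2,1,3,4,5,6,7],
  [7,6,3,4,5,2,3,4,1,3,2,0],
  [7,6,3,4,5,1,3,4,2,3,0,2,1,3,4,5,6,7],
  [5,6,4,5,2,3,4,1,3,2,0],
  [7,6,2,1,3,4,5,0,2,3,4,1,3,2,0],
  [7,6,3,4,5,0,2,3,4,1,3,2,0],
  [4,3,2,1,3,4,5,6,0,2,3,4,5,1,3,4,2,3,0,2,1,3,4,5,6,7],
  [5,6,0,2,3,4,5,1,3,4,2,3,0,2,1,3,4,5,6,7],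
  [7,6,4,5,3,4,2,3,0,2,1,3,4,5,6,7],
  [5,6,1,3,4,5,2,3,4,1,3,2,0],
  [7,6,4,5,3,4,1,3,2,0],
  [5,6,2,3,4,5,1,3,4,2,3,0,2,1,3,4,5,6,7],
  [5,6,2,3,4,5,0,2,3,4,1,3,2,0],
  [5,6,1,3,4,5,0,2,3,4,1,3,2,0],
  [7,6,3,2,1,3,4,5,0,2,3,4,1,3,2,0],
  [7,6,4,5,0,2,3,4,1,3,2,0],
  [7,6,4,5,1,3,4,2,3,0,2,1,3,4,5,6,7],
  [5,6,3,4,5,2,3,4,1,3,2,0],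
  [5,6,3,4,5,1,3,4,2,3,0,2,1,3,4,5,6,7],
  [7,6,4,5,2,3,4,1,3,2,0],
  [5,6,2,1,3,4,5,0,2,3,4,1,3,2,0],
  [5,6,3,4,5,0,2,3,4,1,3,2,0],
  [7],
  [6,5,4,3,2,1,3,4,5,6,7],
  [6,5,4,3,2,0],
  [7,1,3,4,5,6,2,3,4,5,1,3,4,2,3,0,2,1,3,4,5,6,7],
  [7,2,3,4,5,6,1,3,4,5,2,3,4,1,3,2,0],
  [6,5,4,3,0,2,1,3,4,5,6,7],
  [7,2,3,4,5,6,0,2,3,4,5,1,3,4,2,3,0,2,1,3,4,5,6,7],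
  [7,1,3,4,5,6,0,2,3,4,5,1,3,4,2,3,0,2,1,3,4,5,6,7],
  [7,3,4,5,6,2,3,4,5,0,2,3,4,1,3,2,0],
  [7,3,4,5,6,1,3,4,5,0,2,3,4,1,3,2,0],
  [6,5,4,1,3,2,0],
  [7,3,4,5,6,2,3,4,5,1,3,4,2,3,0,2,1,3,4,5,6,7],
  [6,5,4,2,3,0,2,1,3,4,5,6,7],
  [7,3,4,5,6,1,3,4,5,2,3,4,1,3,2,0],
  [7,2,1,3,4,5,6,0,2,3,4,5,1,3,4,2,3,0,2,1,3,4,5,6,7],
  [7,3,4,5,6,0,2,3,4,5,1,3,4,2,3,0,2,1,3,4,5,6,7],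
  [6,4,3,2,1,3,4,5,0,2,3,4,1,3,2,0],
  [6,5,0,2,3,4,1,3,2,0],
  [6,5,1,3,4,2,3,0,2,1,3,4,5,6,7],
  [7,4,5,6,3,4,5,2,3,4,1,3,2,0],
  [7,4,5,6,3,4,5,1,3,4,2,3,0,2,1,3,4,5,6,7],
  [6,5,2,3,4,1,3,2,0],
  [7,4,5,6,2,1,3,4,5,0,2,3,4,1,3,2,0],
  [7,4,5,6,3,4,5,0,2,3,4,1,3,2,0],
  [7,3,2,1,3,4,5,6,0,2,3,4,5,1,3,4,2,3,0,2,1,3,4,5,6,7],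
  [7,4,5,6,0,2,3,4,5,1,3,4,2,3,0,2,1,3,4,5,6,7],
  [6,5,3,4,2,3,0,2,1,3,4,5,6,7],
  [7,4,5,6,1,3,4,5,2,3,4,1,3,2,0],
  [6,5,3,4,1,3,2,0],
  [7,4,5,6,2,3,4,5,1,3,4,2,3,0,2,1,3,4,5,6,7],
  [7,4,5,6,2,3,4,5,0,2,3,4,1,3,2,0],
  [7,4,5,6,1,3,4,5,0,2,3,4,1,3,2,0],
  [5,4,3,2,1,3,4,5,6,0,2,3,4,5,1,3,4,2,3,0,2,1,3,4,5,6,7],
  [6,0,2,3,4,5,1,3,4,2,3,0,2,1,3,4,5,6,7],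
  [7,5,6,4,5,3,4,2,3,0,2,1,3,4,5,6,7],
  [6,1,3,4,5,2,3,4,1,3,2,0],
  [7,5,6,4,5,3,4,1,3,2,0],
  [6,2,3,4,5,1,3,4,2,3,0,2,1,3,4,5,6,7],
  [6,2,3,4,5,0,2,3,4,1,3,2,0],
  [6,1,3,4,5,0,2,3,4,1,3,2,0],
  [7,5,6,3,2,1,3,4,5,0,2,3,4,1,3,2,0],
  [7,5,6,4,5,0,2,3,4,1,3,2,0],
  [7,5,6,4,5,1,3,4,2,3,0,2,1,3,4,5,6,7],
  [6,3,4,5,2,3,4,1,3,2,0],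
  [6,3,4,5,1,3,4,2,3,0,2,1,3,4,5,6,7],
  [7,5,6,4,5,2,3,4,1,3,2,0],
  [6,2,1,3,4,5,0,2,3,4,1,3,2,0],
  [6,3,4,5,0,2,3,4,1,3,2,0],
  [7,4,3,2,1,3,4,5,6,0,2,3,4,5,1,3,4,2,3,0,2,1,3,4,5,6,7],
  [7,5,6,0,2,3,4,5,1,3,4,2,3,0,2,1,3,4,5,6,7],
  [6,4,5,3,4,2,3,0,2,1,3,4,5,6,7],
  [7,5,6,1,3,4,5,2,3,4,1,3,2,0],
  [6,4,5,3,4,1,3,2,0],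
  [7,5,6,2,3,4,5,1,3,4,2,3,0,2,1,3,4,5,6,7],
  [7,5,6,2,3,4,5,0,2,3,4,1,3,2,0],
  [7,5,6,1,3,4,5,0,2,3,4,1,3,2,0],
  [6,3,2,1,3,4,5,0,2,3,4,1,3,2,0],
  [6,4,5,0,2,3,4,1,3,2,0],
  [6,4,5,1,3,4,2,3,0,2,1,3,4,5,6,7],
  [7,5,6,3,4,5,2,3,4,1,3,2,0],
  [7,5,6,3,4,5,1,3,4,2,3,0,2,1,3,4,5,6,7],
  [6,4,5,2,3,4,1,3,2,0],
  [7,5,6,2,1,3,4,5,0,2,3,4,1,3,2,0],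
  [7,5,6,3,4,5,0,2,3,4,1,3,2,0]]

/-- Words for the functionals modulo four. -/
def words4 : List (List Nat) := [
  [],
  [],
  [0,2,3,4,5,1,3,4,2,3,0,2,1,3,4,5,6,7,5,4,3,2,1,3,4,5,6,0,2,3,4,5,1,3,4,2,3,0,2],
  [1,3,4,5,6,7,2,3,4,5,6,1,3,4,5,2,3,4,1,3,2],
  [],
  [2,3,4,5,6,7,1,3,4,5,6,0,2,3,4,5,1,3,4,2,3,0,2,1,3,4,5,6,7,5,1,3,4,2,3,0,2,1,3,4,5,6,4,3,0,2,1,3,4,5,0,2,1,3,4,2,1,3,0,2],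
  [],
  [],
  [],
  [],
  [0,2,3,4,5,1,3,4,2,3,0,2,1,3,4,5,6,7,5,4,3,2,1,3,4,5,6,0,2,3,4,5,1,3,4,2,1,3,0,2],
  [3,4,5,6,7,2,3,4,5,6,1,3,4,5,2,3,4,1,3,2],
  [3,4,5,6,7,1,3,4,5,6,0,2,3,4,5,1,3,4,2,3,0,2,1,3,4,5,6,7,5,1,3,4,2,3,0,2,1,3,4,5,6,4,3,0,2,1,3,4,5,0,2,1,3,4,2,1,3,0,2],
  [2],
  [],
  [],
  [],
  [],
  [4,5,6,7,3,4,5,6,0,2,3,4,5,1,3,4,2,3,0,2,1,3,4,5,6,7,5,1,3,4,2,3,0,2,1,3,4,5,6,4,3,0,2,1,3,4,5,0,2,1,3,4,2,1,3,0,2],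
  [1,3,2],
  [4,5,6,7,3,4,5,6,1,3,4,5,2,3,4,1,3,2],
  [0,2,3,4,5,1,3,4,2,3,0,2,1,3,4,5,6,7,5,4,3,2,1,3,4,5,6,0,2,3,4,5,0,2,1,3,4,2,1,3,0,2],
  [],
  [],
  [],
  [],
  [4,5,6,7,1,3,4,5,6,0,2,3,4,5,1,3,4,2,3,0,2,1,3,4,5,6,7,5,1,3,4,2,3,0,2,1,3,4,5,6,4,3,0,2,1,3,4,5,0,2,1,3,4,2,1,3,0,2],
  [3,2],
  [0,2,3,4,5,1,3,4,2,3,0,2,1,3,4,5,6,7,5,4,3,2,1,3,4,5,6,0,2,3,4,5,2,1,3,4,2,1,3,0,2],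
  [4,5,6,7,2,3,4,5,6,1,3,4,5,2,3,4,1,3,2],
  [],
  [],
  [],
  [],
  [5,6,7,4,5,6,3,4,5,2,3,4,1,3,2],
  [0,2,3,4,5,1,3,4,2,3,0,2,1,3,4,5,6,7,5,4,3,2,1,3,4,5,6,4,3,0,2,1,3,4,5,0,2,1,3,4,2,1,3,0,2],
  [2,3,4,1,3,2],
  [5,6,7,4,5,6,0,2,3,4,5,1,3,4,2,3,0,2,1,3,4,5,6,7,5,3,4,2,3,0,2,1,3,4,5,6,4,3,0,2,1,3,4,5,0,2,1,3,4,2,1,3,0,2],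
  [],
  [],
  [],
  [],
  [5,6,7,4,5,6,1,3,4,5,2,3,4,1,3,2],
  [0,2,3,4,5,1,3,4,2,3,0,2,1,3,4,5,6,7,5,4,3,2,1,3,4,5,6,3,0,2,1,3,4,5,0,2,1,3,4,2,1,3,0,2],
  [5,6,7,4,5,6,0,2,3,4,5,1,3,4,2,3,0,2,1,3,4,5,6,7,5,1,3,4,2,3,0,2,1,3,4,5,6,4,3,0,2,1,3,4,5,0,2,1,3,4,2,1,3,0,2],
  [3,4,1,3,2],
  [],
  [],
  [],
  [],
  [5,6,7,1,3,4,5,6,0,2,3,4,5,1,3,4,2,3,0,2,1,3,4,5,6,7,5,1,3,4,2,3,0,2,1,3,4,5,6,4,3,0,2,1,3,4,5,0,2,1,3,4,2,1,3,0,2],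
  [4,3,2],
  [0,2,3,4,5,1,3,4,2,3,0,2,1,3,4,5,6,7,5,4,3,2,1,3,4,5,6,0,2,1,3,4,5,2,1,3,4,2,1,3,0,2],
  [5,6,7,2,3,4,5,6,1,3,4,5,2,3,4,1,3,2],
  [],
  [],
  [],
  [],
  [5,6,7,3,4,5,6,0,2,3,4,5,1,3,4,2,3,0,2,1,3,4,5,6,7,5,1,3,4,2,3,0,2,1,3,4,5,6,4,3,0,2,1,3,4,5,0,2,1,3,4,2,1,3,0,2],
  [4,1,3,2],
  [5,6,7,3,4,5,6,1,3,4,5,2,3,4,1,3,2],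
  [0,2,3,4,5,1,3,4,2,3,0,2,1,3,4,5,6,7,5,4,3,2,1,3,4,5,6,0,2,1,3,4,5,0,2,1,3,4,2,1,3,0,2],
  [],
  [],
  [],
  [],
  [1,3,4,5,2,3,4,1,3,2],
  [6,7,5,6,0,2,3,4,5,1,3,4,2,3,0,2,1,3,4,5,6,7,5,4,2,3,0,2,1,3,4,5,6,3,0,2,1,3,4,5,0,2,1,3,4,2,1,3,0,2],
  [0,2,3,4,5,1,3,4,2,3,0,2,1,3,4,5,6,7,5,1,3,4,2,3,0,2,1,3,4,5,6,4,3,0,2,1,3,4,5,0,2,1,3,4,2,1,3,0,2],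
  [6,7,5,6,4,5,3,4,1,3,2],
  [],
  [],
  [],
  [],
  [3,4,5,2,3,4,1,3,2],
  [6,7,5,6,0,2,3,4,5,1,3,4,2,3,0,2,1,3,4,5,6,7,5,4,2,3,0,2,1,3,4,5,6,4,3,0,2,1,3,4,5,0,2,1,3,4,2,1,3,0,2],
  [6,7,5,6,4,5,2,3,4,1,3,2],
  [0,2,3,4,5,1,3,4,2,3,0,2,1,3,4,5,6,7,5,3,4,2,3,0,2,1,3,4,5,6,4,3,0,2,1,3,4,5,0,2,1,3,4,2,1,3,0,2],
  [],
  [],
  [],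
  [],
  [6,7,5,6,1,3,4,5,2,3,4,1,3,2],
  [0,2,3,4,5,1,3,4,2,3,0,2,1,3,4,5,6,7,5,4,2,3,0,2,1,3,4,5,6,3,0,2,1,3,4,5,0,2,1,3,4,2,1,3,0,2],
  [6,7,5,6,0,2,3,4,5,1,3,4,2,3,0,2,1,3,4,5,6,7,5,1,3,4,2,3,0,2,1,3,4,5,6,4,3,0,2,1,3,4,5,0,2,1,3,4,2,1,3,0,2],
  [4,5,3,4,1,3,2],
  [],
  [],
  [],
  [],
  [6,7,5,6,3,4,5,2,3,4,1,3,2],
  [0,2,3,4,5,1,3,4,2,3,0,2,1,3,4,5,6,7,5,4,2,3,0,2,1,3,4,5,6,4,3,0,2,1,3,4,5,0,2,1,3,4,2,1,3,0,2],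
  [4,5,2,3,4,1,3,2],
  [6,7,5,6,0,2,3,4,5,1,3,4,2,3,0,2,1,3,4,5,6,7,5,3,4,2,3,0,2,1,3,4,5,6,4,3,0,2,1,3,4,5,0,2,1,3,4,2,1,3,0,2],
  [],
  [],
  [],
  [],
  [6,7,1,3,4,5,6,0,2,3,4,5,1,3,4,2,3,0,2,1,3,4,5,6,7,5,1,3,4,2,3,0,2,1,3,4,5,6,4,3,0,2,1,3,4,5,0,2,1,3,4,2,1,3,0,2],
  [5,4,3,2],
  [0,2,3,4,5,1,3,4,2,3,0,2,1,3,4,5,6,7,5,4,3,0,2,1,3,4,5,6,0,2,1,3,4,5,2,1,3,4,2,1,3,0,2],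
  [6,7,2,3,4,5,6,1,3,4,5,2,3,4,1,3,2],
  [],
  [],
  [],
  [],
  [6,7,3,4,5,6,0,2,3,4,5,1,3,4,2,3,0,2,1,3,4,5,6,7,5,1,3,4,2,3,0,2,1,3,4,5,6,4,3,0,2,1,3,4,5,0,2,1,3,4,2,1,3,0,2],
  [5,4,1,3,2],
  [6,7,3,4,5,6,1,3,4,5,2,3,4,1,3,2],
  [0,2,3,4,5,1,3,4,2,3,0,2,1,3,4,5,6,7,5,4,3,0,2,1,3,4,5,6,0,2,1,3,4,5,0,2,1,3,4,2,1,3,0,2],
  [],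
  [],
  [],
  [],
  [6,7,4,5,6,3,4,5,2,3,4,1,3,2],
  [0,2,3,4,5,1,3,4,2,3,0,2,1,3,4,5,6,7,5,4,3,0,2,1,3,4,5,6,4,3,0,2,1,3,4,5,0,2,1,3,4,2,1,3,0,2],
  [5,2,3,4,1,3,2],
  [6,7,4,5,6,0,2,3,4,5,1,3,4,2,3,0,2,1,3,4,5,6,7,5,3,4,2,3,0,2,1,3,4,5,6,4,3,0,2,1,3,4,5,0,2,1,3,4,2,1,3,0,2],
  [],
  [],
  [],
  [],
  [6,7,4,5,6,1,3,4,5,2,3,4,1,3,2],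
  [0,2,3,4,5,1,3,4,2,3,0,2,1,3,4,5,6,7,5,4,3,0,2,1,3,4,5,6,3,0,2,1,3,4,5,0,2,1,3,4,2,1,3,0,2],
  [6,7,4,5,6,0,2,3,4,5,1,3,4,2,3,0,2,1,3,4,5,6,7,5,1,3,4,2,3,0,2,1,3,4,5,6,4,3,0,2,1,3,4,5,0,2,1,3,4,2,1,3,0,2],
  [5,3,4,1,3,2],
  [],
  [],
  [],
  [],
  [1,3,4,5,6,0,2,3,4,5,1,3,4,2,3,0,2,1,3,4,5,6,7,5,1,3,4,2,3,0,2,1,3,4,5,6,4,3,0,2,1,3,4,5,0,2,1,3,4,2,1,3,0,2],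
  [7,6,5,4,3,2],
  [7,6,0,2,3,4,5,1,3,4,2,3,0,2,1,3,4,5,6,7,5,4,3,0,2,1,3,4,5,6,0,2,1,3,4,5,2,1,3,4,2,1,3,0,2],
  [2,3,4,5,6,1,3,4,5,2,3,4,1,3,2],
  [],
  [],
  [],
  [],
  [3,4,5,6,0,2,3,4,5,1,3,4,2,3,0,2,1,3,4,5,6,7,5,1,3,4,2,3,0,2,1,3,4,5,6,4,3,0,2,1,3,4,5,0,2,1,3,4,2,1,3,0,2],
  [7,6,5,4,1,3,2],
  [3,4,5,6,1,3,4,5,2,3,4,1,3,2],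
  [7,6,0,2,3,4,5,1,3,4,2,3,0,2,1,3,4,5,6,7,5,4,3,0,2,1,3,4,5,6,0,2,1,3,4,5,0,2,1,3,4,2,1,3,0,2],
  [],
  [],
  [],
  [],
  [4,5,6,3,4,5,2,3,4,1,3,2],
  [7,6,0,2,3,4,5,1,3,4,2,3,0,2,1,3,4,5,6,7,5,4,3,0,2,1,3,4,5,6,4,3,0,2,1,3,4,5,0,2,1,3,4,2,1,3,0,2],
  [7,6,5,2,3,4,1,3,2],
  [4,5,6,0,2,3,4,5,1,3,4,2,3,0,2,1,3,4,5,6,7,5,3,4,2,3,0,2,1,3,4,5,6,4,3,0,2,1,3,4,5,0,2,1,3,4,2,1,3,0,2],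
  [],
  [],
  [],
  [],
  [4,5,6,1,3,4,5,2,3,4,1,3,2],
  [7,6,0,2,3,4,5,1,3,4,2,3,0,2,1,3,4,5,6,7,5,4,3,0,2,1,3,4,5,6,3,0,2,1,3,4,5,0,2,1,3,4,2,1,3,0,2],
  [4,5,6,0,2,3,4,5,1,3,4,2,3,0,2,1,3,4,5,6,7,5,1,3,4,2,3,0,2,1,3,4,5,6,4,3,0,2,1,3,4,5,0,2,1,3,4,2,1,3,0,2],
  [7,6,5,3,4,1,3,2],
  [],
  [],
  [],
  [],
  [7,6,1,3,4,5,2,3,4,1,3,2],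
  [5,6,0,2,3,4,5,1,3,4,2,3,0,2,1,3,4,5,6,7,5,4,2,3,0,2,1,3,4,5,6,3,0,2,1,3,4,5,0,2,1,3,4,2,1,3,0,2],
  [7,6,0,2,3,4,5,1,3,4,2,3,0,2,1,3,4,5,6,7,5,1,3,4,2,3,0,2,1,3,4,5,6,4,3,0,2,1,3,4,5,0,2,1,3,4,2,1,3,0,2],
  [5,6,4,5,3,4,1,3,2],
  [],
  [],
  [],
  [],
  [7,6,3,4,5,2,3,4,1,3,2],
  [5,6,0,2,3,4,5,1,3,4,2,3,0,2,1,3,4,5,6,7,5,4,2,3,0,2,1,3,4,5,6,4,3,0,2,1,3,4,5,0,2,1,3,4,2,1,3,0,2],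
  [5,6,4,5,2,3,4,1,3,2],
  [7,6,0,2,3,4,5,1,3,4,2,3,0,2,1,3,4,5,6,7,5,3,4,2,3,0,2,1,3,4,5,6,4,3,0,2,1,3,4,5,0,2,1,3,4,2,1,3,0,2],
  [],
  [],
  [],
  [],
  [5,6,1,3,4,5,2,3,4,1,3,2],
  [7,6,0,2,3,4,5,1,3,4,2,3,0,2,1,3,4,5,6,7,5,4,2,3,0,2,1,3,4,5,6,3,0,2,1,3,4,5,0,2,1,3,4,2,1,3,0,2],
  [5,6,0,2,3,4,5,1,3,4,2,3,0,2,1,3,4,5,6,7,5,1,3,4,2,3,0,2,1,3,4,5,6,4,3,0,2,1,3,4,5,0,2,1,3,4,2,1,3,0,2],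
  [7,6,4,5,3,4,1,3,2],
  [],
  [],
  [],
  [],
  [5,6,3,4,5,2,3,4,1,3,2],
  [7,6,0,2,3,4,5,1,3,4,2,3,0,2,1,3,4,5,6,7,5,4,2,3,0,2,1,3,4,5,6,4,3,0,2,1,3,4,5,0,2,1,3,4,2,1,3,0,2],
  [7,6,4,5,2,3,4,1,3,2],
  [5,6,0,2,3,4,5,1,3,4,2,3,0,2,1,3,4,5,6,7,5,3,4,2,3,0,2,1,3,4,5,6,4,3,0,2,1,3,4,5,0,2,1,3,4,2,1,3,0,2],
  [],
  [],
  [],
  [],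
  [7,1,3,4,5,6,0,2,3,4,5,1,3,4,2,3,0,2,1,3,4,5,6,7,5,1,3,4,2,3,0,2,1,3,4,5,6,4,3,0,2,1,3,4,5,0,2,1,3,4,2,1,3,0,2],
  [6,5,4,3,2],
  [6,0,2,3,4,5,1,3,4,2,3,0,2,1,3,4,5,6,7,5,4,3,0,2,1,3,4,5,6,0,2,1,3,4,5,2,1,3,4,2,1,3,0,2],
  [7,2,3,4,5,6,1,3,4,5,2,3,4,1,3,2],
  [],
  [],
  [],
  [],
  [7,3,4,5,6,0,2,3,4,5,1,3,4,2,3,0,2,1,3,4,5,6,7,5,1,3,4,2,3,0,2,1,3,4,5,6,4,3,0,2,1,3,4,5,0,2,1,3,4,2,1,3,0,2],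
  [6,5,4,1,3,2],
  [7,3,4,5,6,1,3,4,5,2,3,4,1,3,2],
  [6,0,2,3,4,5,1,3,4,2,3,0,2,1,3,4,5,6,7,5,4,3,0,2,1,3,4,5,6,0,2,1,3,4,5,0,2,1,3,4,2,1,3,0,2],
  [],
  [],
  [],
  [],
  [7,4,5,6,3,4,5,2,3,4,1,3,2],
  [6,0,2,3,4,5,1,3,4,2,3,0,2,1,3,4,5,6,7,5,4,3,0,2,1,3,4,5,6,4,3,0,2,1,3,4,5,0,2,1,3,4,2,1,3,0,2],
  [6,5,2,3,4,1,3,2],
  [7,4,5,6,0,2,3,4,5,1,3,4,2,3,0,2,1,3,4,5,6,7,5,3,4,2,3,0,2,1,3,4,5,6,4,3,0,2,1,3,4,5,0,2,1,3,4,2,1,3,0,2],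
  [],
  [],
  [],
  [],
  [7,4,5,6,1,3,4,5,2,3,4,1,3,2],
  [6,0,2,3,4,5,1,3,4,2,3,0,2,1,3,4,5,6,7,5,4,3,0,2,1,3,4,5,6,3,0,2,1,3,4,5,0,2,1,3,4,2,1,3,0,2],
  [7,4,5,6,0,2,3,4,5,1,3,4,2,3,0,2,1,3,4,5,6,7,5,1,3,4,2,3,0,2,1,3,4,5,6,4,3,0,2,1,3,4,5,0,2,1,3,4,2,1,3,0,2],
  [6,5,3,4,1,3,2],
  [],
  [],
  [],
  [],
  [6,1,3,4,5,2,3,4,1,3,2],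
  [7,5,6,0,2,3,4,5,1,3,4,2,3,0,2,1,3,4,5,6,7,5,4,2,3,0,2,1,3,4,5,6,3,0,2,1,3,4,5,0,2,1,3,4,2,1,3,0,2],
  [6,0,2,3,4,5,1,3,4,2,3,0,2,1,3,4,5,6,7,5,1,3,4,2,3,0,2,1,3,4,5,6,4,3,0,2,1,3,4,5,0,2,1,3,4,2,1,3,0,2],
  [7,5,6,4,5,3,4,1,3,2],
  [],
  [],
  [],
  [],
  [6,3,4,5,2,3,4,1,3,2],
  [7,5,6,0,2,3,4,5,1,3,4,2,3,0,2,1,3,4,5,6,7,5,4,2,3,0,2,1,3,4,5,6,4,3,0,2,1,3,4,5,0,2,1,3,4,2,1,3,0,2],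
  [7,5,6,4,5,2,3,4,1,3,2],
  [6,0,2,3,4,5,1,3,4,2,3,0,2,1,3,4,5,6,7,5,3,4,2,3,0,2,1,3,4,5,6,4,3,0,2,1,3,4,5,0,2,1,3,4,2,1,3,0,2],
  [],
  [],
  [],
  [],
  [7,5,6,1,3,4,5,2,3,4,1,3,2],
  [6,0,2,3,4,5,1,3,4,2,3,0,2,1,3,4,5,6,7,5,4,2,3,0,2,1,3,4,5,6,3,0,2,1,3,4,5,0,2,1,3,4,2,1,3,0,2],
  [7,5,6,0,2,3,4,5,1,3,4,2,3,0,2,1,3,4,5,6,7,5,1,3,4,2,3,0,2,1,3,4,5,6,4,3,0,2,1,3,4,5,0,2,1,3,4,2,1,3,0,2],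
  [6,4,5,3,4,1,3,2],
  [],
  [],
  [],
  [],
  [7,5,6,3,4,5,2,3,4,1,3,2],
  [6,0,2,3,4,5,1,3,4,2,3,0,2,1,3,4,5,6,7,5,4,2,3,0,2,1,3,4,5,6,4,3,0,2,1,3,4,5,0,2,1,3,4,2,1,3,0,2],
  [6,4,5,2,3,4,1,3,2],
  [7,5,6,0,2,3,4,5,1,3,4,2,3,0,2,1,3,4,5,6,7,5,3,4,2,3,0,2,1,3,4,5,6,4,3,0,2,1,3,4,5,0,2,1,3,4,2,1,3,0,2],
  [],
  []]

end CfsgLib.Known.E8Sub
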