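import Cfsg.Agent.Lib.Known.E8SL2.Cover
import Cfsg.Agent.Lib.Known.E8SL2.Inv
import Cfsg.Agent.Lib.Known.E8Sub.WordData
import Cfsg.Agent.Lib.Known.E8Sub.Pack

/-!
# The checks of the tables of functionals modulo eight
-/

set_option autoImplicit false
set_option maxRecDepth 20000

namespace CfsgLib.Known.E8Sub

open Cfsg.Lie (chevE8)
open CfsgLib.Lie.Chev hiding monP
open CfsgLib.Known.E8SL2 (coT bits)

/-- A simple reflection of a list. -/
def reflL (i : ℕ) (l : List ℕ) : List ℕ :=
  (List.range 8).map fun j => (l.getD j 0 + (negC.getD i []).getD j 0 * l.getD i 0) % 8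

theorem wT_ok : ∀ i j : Fin 8, (wT.getD (i : ℕ) []).getD (j : ℕ) 0 < 240 ∧
    auxE8.w i (chevE8.simple j) = (wT.getD (i : ℕ) []).getD (j : ℕ) 0 ∧
    ∀ k : Fin 8, ((coT.getD ((wT.getD (i : ℕ) []).getD (j : ℕ) 0) []).getD (k : ℕ) 0 + 2) % 8 =
      ((if k = j then 1 else 0) + (negC.getD (i : ℕ) []).getD (j : ℕ) 0 * (if k = i then 1 else 0)) % 8 := by
  decide +kernel

/-- A word of simple reflections on a list. -/
def wordL (ws : List ℕ) (l : List ℕ) : List ℕ := ws.foldl (fun g i => reflL (i % 8) g) l

/-- A combination of two lists. -/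
def addL (c : ℕ) (a e : List ℕ) : List ℕ := (List.range 8).map fun j => a.getD j 0 + c * e.getD j 0

/-- The residues of the entries. -/
def modL (m : ℕ) (l : List ℕ) : List ℕ := (List.range 8).map fun j => l.getD j 0 % m

/-- The quotients of the entries. -/
def divL (m : ℕ) (l : List ℕ) : List ℕ := (List.range 8).map fun j => l.getD j 0 / m

/-- The check of the words modulo two. -/
def ok2 : Bool :=
  (List.range 256).all fun k =>
    let b := (bits 8).getD k []
    b.all (Nat.beq 0) ||
      (let r := modL 2 (wordL (words2.getD k []) b)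
      r == repA || r == repB)

theorem ok2_true : ok2 = true := by decide +kernel

theorem bits_length : (bits 8).length = 256 ∧ ∀ b ∈ bits 8, b.length = 8 := by decide +kernel

/-- The check of the lifts modulo four. -/
def ok4 : Bool :=
  Nat.beq (cntP (addL 4 [] repA) 0) 112 && Nat.beq (cntP (addL 4 [] repB) 0) 128 &&
    (List.range 256).all fun k =>
      let b := (bits 8).getD k []
      let a := cntP (addL 2 [] (addL 2 repA b)) 0
      let c := cntP (addL 2 [] (addL 2 repB b)) 0
      [52, 56, 84].contains a && [58, 62, 74, 126].contains c &&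
        (!Nat.beq a 56 || modL 4 (wordL (words4.getD k []) (addL 2 repA b)) == rep64)

theorem ok4_true : ok4 = true := by decide +kernel

/-- The check of the lifts modulo eight. -/
def ok8 : Bool :=
  (List.range 256).all fun k =>
    let g := addL 4 rep64 ((bits 8).getD k [])
    let a := cntP g 0
    [24, 26, 32, 42, 56].contains a && (Nat.beq a 24 || !Nat.beq (cntP g 1) (cntP g 5))

theorem ok8_true : ok8 = true := by decide +kernel

end CfsgLib.Known.E8Sub
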