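import Cfsg.Agent.Lib.Lie.OddInvolution.SignTorus

/-!
# Characters of the roots given by torus elements
-/

set_option autoImplicit false

namespace CfsgLib.Known.E8Sub

open Cfsg.Lie (ChevalleyDatum)
open CfsgLib.Lie.Chev
open CfsgLib.Lie.OddInvolution (CartanOK)

variable {D : ChevalleyDatum} {X : Aux} {F : Type*} [Field F] {G : Type*} [Group G] (R : Rel D X F G)

/-- A function on the roots multiplicative on coordinates. -/
def MLin (a : Fin D.nroots → Fˣ) : Prop :=
  ∀ r, a r = ∏ j : Fin D.rank, a (R.sroot j) ^ X.coef j (r : ℕ)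

theorem mlin_torus (c : Fin D.rank → Fˣ) :
    MLin R fun r => ∏ i : Fin D.rank, c i ^ D.cartan i (r : ℕ) := by
  intro r
  show ∏ i : Fin D.rank, c i ^ D.cartan i (r : ℕ) =
    ∏ j : Fin D.rank, (∏ i : Fin D.rank, c i ^ D.cartan i (R.sroot j : ℕ)) ^ X.coef j (r : ℕ)
  simp only [← Finset.prod_zpow]
  rw [Finset.prod_comm]
  refine Finset.prod_congr rfl fun i _ => ?_
  rw [R.cert.cartan_eq r.2 i.2, Finset.sum_range, zpow_finset_sum]
  exact Finset.prod_congr rfl fun j _ => by rw [← zpow_mul, mul_comm]; rfl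

theorem exists_char {t : G} (ht : t ∈ R.HS) :
    ∃ a : Fin D.nroots → Fˣ, MLin R a ∧ R.IsMon t 1 fun r => (a r : F) := by
  obtain ⟨c, hc⟩ := R.torusHom_surjective ⟨t, ht⟩
  refine ⟨_, mlin_torus R c, ?_⟩
  have h := CfsgLib.Known.TrialityTorus.isMon_torusHom R c
  rw [show ((R.torusHom c : R.HS) : G) = t from congrArg Subtype.val hc] at h
  exact h

theorem mlin_wperm {a : Fin D.nroots → Fˣ} (ha : MLin R a) (i : Fin D.rank) (r : Fin D.nroots) :
    a (R.wperm i r) = a r * (a (R.sroot i) ^ D.cartan i (r : ℕ))⁻¹ := by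
  rw [ha (R.wperm i r), ha r]
  have e : ∀ j : Fin D.rank, a (R.sroot j) ^ X.coef j (R.wperm i r : ℕ) =
      a (R.sroot j) ^ X.coef j (r : ℕ) * if j = i then (a (R.sroot i) ^ D.cartan i (r : ℕ))⁻¹ else 1 := by
    intro j
    rw [R.wperm_apply, R.cert.coef_w i.2 r.2 j.2]
    by_cases h : j = i
    · subst h; rw [if_pos rfl, if_pos rfl, zpow_sub]
    · rw [if_neg (fun e => h (Fin.ext e)), if_neg h, mul_one]
  rw [Finset.prod_congr rfl fun j _ => e j, Finset.prod_mul_distrib, Finset.prod_ite_eq', if_pos (Finset.mem_univ _)]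

theorem mlin_negF {a : Fin D.nroots → Fˣ} (ha : MLin R a) (r : Fin D.nroots) : a (R.negF r) = (a r)⁻¹ := by
  rw [ha, ha r, ← Finset.prod_inv_distrib]
  refine Finset.prod_congr rfl fun j _ => ?_
  rw [← zpow_neg]
  exact congrArg _ (R.cert.coef_neg r.2 j.2)

omit R in
theorem neg_one_zpow_eq (m : ℤ) : (-1 : Fˣ) ^ m = if (m : ZMod 2) = 0 then 1 else -1 := by
  rcases Int.even_or_odd m with h | h
  · rw [h.neg_one_zpow, if_pos ((ZMod.intCast_eq_zero_iff_even).2 h)]
  · rw [h.neg_one_zpow, if_neg (by rw [(ZMod.intCast_eq_one_iff_odd).2 h]; exact one_ne_zero)]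

/-- If all descents of an element preserving a character are negated simple roots, the character is trivial on
one of them or on an adjacent sum. -/
theorem exists_trivial_descent (hC : CartanOK D) (h2 : (2 : F) ≠ 0) {a : Fin D.nroots → Fˣ} (ha : MLin R a)
    (w : R.WQ) (hw : w ≠ 1) (hfix : ∀ r, a (R.qact w r) = a r)
    (hneg : ∀ k, ¬ half D ≤ (R.qact w (R.sroot k) : ℕ) → R.qact w (R.sroot k) = R.negF (R.sroot k)) :
    (∃ k, R.qact w (R.sroot k) = R.negF (R.sroot k) ∧ a (R.sroot k) = 1) ∨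
      ∃ i j, i ≠ j ∧ R.qact w (R.sroot i) = R.negF (R.sroot i) ∧ R.qact w (R.sroot j) = R.negF (R.sroot j) ∧
        a (R.wperm i (R.sroot j)) = 1 := by
  classical
  by_contra hno
  push Not at hno
  obtain ⟨hno1, hno2⟩ := hno
  have hne1 : (-1 : Fˣ) ≠ 1 := fun h => h2 (by
    have := congrArg Units.val h
    rw [Units.val_neg, Units.val_one] at this
    linear_combination -this)
  have hp1 : ∀ k, R.qact w (R.sroot k) = R.negF (R.sroot k) → a (R.sroot k) = -1 := fun k hk => by
    have h := hfix (R.sroot k)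
    rw [hk, mlin_negF R ha] at h
    have h' : ((a (R.sroot k) : Fˣ) : F) * (a (R.sroot k) : F) = 1 := by
      rw [← Units.val_mul]; nth_rw 1 [← h]; rw [inv_mul_cancel, Units.val_one]
    rcases mul_self_eq_one_iff.1 h' with h1 | h1
    · exact absurd (Units.ext h1) (hno1 k hk)
    · exact Units.ext h1
  have horth : ∀ i j, R.qact w (R.sroot i) = R.negF (R.sroot i) → R.qact w (R.sroot j) = R.negF (R.sroot j) →
      i ≠ j → D.cartan i (D.simple j) = 0 := by
    intro i j hi hj hij
    by_contra hc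
    rcases hC.odd i j hij hc with h | h
    · refine hno2 i j hij hi hj ?_
      rw [mlin_wperm R ha, hp1 i hi, hp1 j hj, neg_one_zpow_eq,
        show ((D.cartan i (R.sroot j : ℕ) : ℤ) : ZMod 2) = 1 from h, if_neg one_ne_zero, mul_inv_cancel]
    · refine hno2 j i (Ne.symm hij) hj hi ?_
      rw [mlin_wperm R ha, hp1 i hi, hp1 j hj, neg_one_zpow_eq,
        show ((D.cartan j (R.sroot i : ℕ) : ℤ) : ZMod 2) = 1 from h, if_neg one_ne_zero, mul_inv_cancel]
  obtain ⟨l, hl, hnd⟩ : ∃ l : List (Fin D.rank),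
      (∀ k, k ∈ l ↔ R.qact w (R.sroot k) = R.negF (R.sroot k)) ∧ l.Nodup :=
    ⟨(Finset.univ.filter fun k => R.qact w (R.sroot k) = R.negF (R.sroot k)).toList, by simp, Finset.nodup_toList _⟩
  obtain ⟨P, hP⟩ : ∃ P, P = R.nsPerm (l.map R.nS).prod := ⟨_, rfl⟩
  have hcoef := CfsgLib.Lie.OddInvolution.coef_prod_nS R l hnd
    (fun i hi j hj => horth i j ((hl i).1 hi) ((hl j).1 hj))
  rw [← hP] at hcoef
  have hlin := R.isLin_qact w
  have hJcoef : ∀ i j : Fin D.rank, j ∈ l → X.coef i (R.qact w (R.sroot j) : ℕ) = -(if i = j then 1 else 0) := by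
    intro i j hj
    rw [(hl j).1 hj]
    show X.coef i (D.neg (R.sroot j : ℕ)) = _
    rw [R.cert.coef_neg (R.sroot j).2 i.2, R.coef_sroot]
  -- the product undoes the element
  have hone : w * R.qmk (l.map R.nS).prod = 1 := by
    by_contra hne
    obtain ⟨k, hk⟩ := R.exists_descent hne
    refine hk ?_
    rw [map_mul, R.qact_qmk, ← hP, Equiv.Perm.mul_apply]
    have hval : ∀ i : Fin D.rank, X.coef i (R.qact w (P (R.sroot k)) : ℕ) =
        X.coef i (R.qact w (R.sroot k) : ℕ) + if i ∈ l then D.cartan i (D.simple k) else 0 := by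
      intro i
      rw [hlin (P (R.sroot k)) i, Finset.sum_congr rfl fun j _ => by rw [hcoef, sub_mul, R.coef_sroot],
        Finset.sum_sub_distrib]
      simp only [ite_mul, one_mul, zero_mul, Finset.sum_ite_eq', Finset.mem_univ, if_true, sub_eq_add_neg]
      congr 1
      rw [← Finset.sum_neg_distrib, Finset.sum_eq_single i]
      · by_cases hi : i ∈ l
        · rw [if_pos hi, if_pos hi, hJcoef i i hi, if_pos rfl]
          show -(D.cartan i (D.simple k) * -1) = _
          ring
        · rw [if_neg hi, if_neg hi, neg_zero]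
      · intro j _ hji
        by_cases hj : j ∈ l
        · rw [if_pos hj, hJcoef i j hj, if_neg (Ne.symm hji), neg_zero, mul_zero, neg_zero]
        · rw [if_neg hj, neg_zero]
      · exact fun h => absurd (Finset.mem_univ i) h
    by_cases hkl : k ∈ l
    · refine R.pos_of_coef _ k ?_
      rw [hval, hJcoef k k hkl, if_pos rfl, if_pos hkl, R.cert.cartan_simple k.2]
      norm_num
    · have hpos : half D ≤ (R.qact w (R.sroot k) : ℕ) := by
        by_contra h
        exact hkl ((hl k).2 (hneg k h))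
      obtain ⟨i, hi, hine⟩ : ∃ i : Fin D.rank, i ∉ l ∧ X.coef i (R.qact w (R.sroot k) : ℕ) ≠ 0 := by
        by_contra hall
        push Not at hall
        obtain ⟨u, hu⟩ : ∃ u, u = R.qact w (R.sroot k) := ⟨_, rfl⟩
        have hinv : ∀ j, j ∈ l → R.qact w⁻¹ (R.sroot j) = R.negF (R.sroot j) := fun j hj => by
          refine (R.qact w).injective ?_
          rw [R.qact_inv_apply, R.qact_negF, (hl j).1 hj, R.negF_negF]
        have h1 := R.isLin_qact w⁻¹ u k
        rw [hu, R.qact_apply_inv, R.coef_sroot, if_pos rfl, Finset.sum_eq_zero (fun j _ => ?_)] at h1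
        · exact one_ne_zero h1
        · by_cases hj : j ∈ l
          · rw [hinv j hj]
            show _ * X.coef k (D.neg (R.sroot j : ℕ)) = 0
            rw [R.cert.coef_neg (R.sroot j).2 k.2, R.coef_sroot, if_neg (fun e : k = j => hkl (e ▸ hj)), neg_zero,
              mul_zero]
          · rw [hall j hj, zero_mul]
      refine R.pos_of_coef _ i ?_
      rw [hval, if_neg hi, add_zero]
      exact lt_of_le_of_ne (R.cert.coef_nonneg (R.qact w (R.sroot k)).2 i.2 hpos) (Ne.symm hine)
  -- characters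
  have hne : l ≠ [] := fun h => hw (by rw [← hone, h, List.map_nil, List.prod_nil, map_one, mul_one])
  obtain ⟨k, hk⟩ := hC.det (fun j => decide (j ∈ l)) (by
    obtain ⟨j, hj⟩ := List.exists_mem_of_ne_nil l hne
    exact ⟨j, by simp [hj]⟩)
  refine hk ?_
  have hPw : ∀ r, R.qact w (P r) = r := fun r => by
    rw [hP, ← R.qact_qmk, ← R.qact_mul_apply, hone, map_one, Equiv.Perm.one_apply]
  have hpk : a (P (R.sroot k)) = a (R.sroot k) := by rw [← hfix (P (R.sroot k)), hPw]
  rw [ha (P (R.sroot k)), ha (R.sroot k)] at hpk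
  simp only [hcoef, zpow_sub, Finset.prod_mul_distrib, Finset.prod_inv_distrib, mul_eq_left, inv_eq_one] at hpk
  obtain ⟨M, hM⟩ : ∃ M : ℤ, M = ∑ j : Fin D.rank, if j ∈ l then D.cartan j (D.simple k) else 0 := ⟨_, rfl⟩
  have hM1 : (-1 : Fˣ) ^ M = 1 := by
    rw [hM, zpow_finset_sum]
    refine Eq.trans (Finset.prod_congr rfl fun j _ => ?_) hpk
    by_cases hj : j ∈ l
    · rw [if_pos hj, if_pos hj, hp1 j ((hl j).1 hj)]; rfl
    · rw [if_neg hj, if_neg hj, zpow_zero, zpow_zero]
  rw [neg_one_zpow_eq] at hM1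
  by_cases h : (M : ZMod 2) = 0
  · rw [hM, Int.cast_sum] at h
    refine Eq.trans (Finset.sum_congr rfl fun j _ => ?_) h
    by_cases hj : j ∈ l <;> simp [hj]
  · rw [if_neg h] at hM1
    exact absurd hM1 hne1

end CfsgLib.Known.E8Sub
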