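import Cfsg.Agent.Lib.Known.E8Sub.SpSixArith
import Cfsg.Agent.Lib.Known.E8Sp.Sums

/-!
# The group of type E8 over three elements has no subgroup PSp(6, 3)
-/

set_option autoImplicit false
set_option linter.style.haveILetI false

namespace CfsgLib.Known.E8Sub

open Cfsg.Lie (chevE8)
open CfsgLib.Known.AltE6 (rep)

theorem no_psp_63 {H : Subgroup ↥(chevE8.group (ZMod 3))} (e : ↥H ≃* Cfsg.PSp 3 (ZMod 3)) : False := by
  obtain ⟨φ, hφ, hinj⟩ : ∃ φ : Cfsg.PSp 3 (ZMod 3) →* ↥(chevE8.group (ZMod 3)),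
      φ = H.subtype.comp e.symm.toMonoidHom ∧ Function.Injective φ :=
    ⟨_, rfl, H.subtype_injective.comp e.symm.injective⟩
  have h2 : (2 : ZMod 3) ≠ 0 := by decide
  have hodd : Odd (Fintype.card (ZMod 3)) := by rw [ZMod.card]; decide
  exact false_of_sums hodd φ hinj (E8Sp.sp6_sums h2 ((rep chevE8 (ZMod 3)).comp φ))

end CfsgLib.Known.E8Sub
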