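import Cfsg.Agent.Lib.Known.E8Sub.FixDim
import Cfsg.Prelude.Def_Classical

/-!
# The contradiction from the sums over two-subgroups of a symplectic group in E8

The integrality of the sums leaves only the dimensions 26 and 38 for the fixed space of an element of order eight,
which do not occur.
-/

set_option autoImplicit false
set_option maxRecDepth 20000

namespace CfsgLib.Known.E8Sub

open Module
open Cfsg.Lie (chevE8)
open CfsgLib.Lie.Chev hiding monP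
open CfsgLib.Known.AltE6 (rep)

theorem finrank_space (K : Type*) [Field K] : finrank K (chevE8.Idx → K) = 248 := by
  rw [Module.finrank_fintype_fun_eq_card]; rfl

theorem fdim_one (F : Type*) [Field F] : fdim (rep chevE8 F (1 : ↥(chevE8.group F))) = 248 := by
  rw [map_one, fdim, show CfsgLib.Perm.AltSection.eig (1 : Module.End F (chevE8.Idx → F)) 1 = ⊤ by
    ext; simp [CfsgLib.Perm.AltSection.mem_eig], finrank_top, finrank_space]

/-- The cases left by the sums over the torus of the symplectic group. -/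
theorem torus_cases {dA dB dc U a0 a1 a2 a3 : ℤ} (hA : dA = 120 ∨ dA = 136) (hB : dB = 120 ∨ dB = 136)
    (hc : dA = 120 ∧ (dc = 60 ∨ dc = 64 ∨ dc = 92) ∨ dA = 136 ∧ (dc = 66 ∨ dc = 70 ∨ dc = 82 ∨ dc = 134))
    (h0 : 248 + 3 * (2 * dA - 248) + 18 * U + 108 * (2 * dc - dA) + 108 * (2 * dB - 248) = 256 * a0)
    (h1 : 248 + 3 * (2 * dA - 248) + 10 * U + 12 * (2 * dc - dA) - 36 * (2 * dB - 248) = 256 * a1)
    (h2 : 248 + 3 * (2 * dA - 248) + 2 * U - 20 * (2 * dc - dA) + 12 * (2 * dB - 248) = 256 * a2)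
    (h3 : 248 + 3 * (2 * dA - 248) - 6 * U + 12 * (2 * dc - dA) - 4 * (2 * dB - 248) = 256 * a3)
    (n0 : 0 ≤ a0) (n1 : 0 ≤ a1) (n2 : 0 ≤ a2) (n3 : 0 ≤ a3) :
    dA = 120 ∧ dB = 120 ∧ dc = 64 ∧ a0 = 2 ∧ a2 = 0 ∧ a3 = 1 := by
  rcases hA with rfl | rfl <;> rcases hB with rfl | rfl <;>
    rcases hc with ⟨h, rfl | rfl | rfl⟩ | ⟨h, rfl | rfl | rfl | rfl⟩ <;> omega

/-- The equations of the swap. -/
theorem swap_cases {fb sy fz r0 r2 r3 : ℤ} (e0 : 6 * (fb - 8) + 12 * sy + 36 * fz = 64 * r0)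
    (e2 : 6 * (fb - 8) - 4 * sy - 12 * fz = 64 * r2) (e3 : -(2 * (fb - 8)) - 4 * sy + 4 * fz = 64 * r3)
    (b0 : -2 ≤ r0 ∧ r0 ≤ 2) (b2 : r2 = 0) (b3 : r3 = 1 ∨ r3 = -1) : sy = 12 ∨ sy = -12 := by
  omega

/-- The arithmetic of the sums. -/
theorem sums_false {dA dB dc dy : ℤ} (hA : dA = 120 ∨ dA = 136) (hB : dB = 120 ∨ dB = 136)
    (hc : dA = 120 ∧ (dc = 60 ∨ dc = 64 ∨ dc = 92) ∨ dA = 136 ∧ (dc = 66 ∨ dc = 70 ∨ dc = 82 ∨ dc = 134))
    (hy : dA = 120 → dc = 64 → dy = 32 ∨ dy = 34 ∨ dy = 40 ∨ dy = 50 ∨ dy = 64)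
    {U fb fz : ℤ} {m p q : Fin 4 → ℕ}
    (h0 : 248 + 3 * (2 * dA - 248) + 18 * U + 108 * (2 * dc - dA) + 108 * (2 * dB - 248) = 256 * m 0)
    (h1 : 248 + 3 * (2 * dA - 248) + 10 * U + 12 * (2 * dc - dA) - 36 * (2 * dB - 248) = 256 * m 1)
    (h2 : 248 + 3 * (2 * dA - 248) + 2 * U - 20 * (2 * dc - dA) + 12 * (2 * dB - 248) = 256 * m 2)
    (h3 : 248 + 3 * (2 * dA - 248) - 6 * U + 12 * (2 * dc - dA) - 4 * (2 * dB - 248) = 256 * m 3)
    (e0 : p 0 + q 0 = m 0)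
    (t0 : 2 * ((2 * dA - 248) + (2 * dc - dA)) + 6 * (fb + (2 * dB - 248)) + 12 * (2 * dy - dc) + 36 * fz =
      64 * ((p 0 : ℤ) - q 0))
    (e2 : p 2 + q 2 = m 2)
    (t2 : 2 * ((2 * dA - 248) + (2 * dc - dA)) + 6 * (fb + (2 * dB - 248)) - 4 * (2 * dy - dc) - 12 * fz =
      64 * ((p 2 : ℤ) - q 2))
    (e3 : p 3 + q 3 = m 3)
    (t3 : 2 * ((2 * dA - 248) + (2 * dc - dA)) - 2 * (fb + (2 * dB - 248)) - 4 * (2 * dy - dc) + 4 * fz =
      64 * ((p 3 : ℤ) - q 3)) : False := by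
  obtain ⟨rfl, rfl, rfl, hm0, hm2, hm3⟩ := torus_cases hA hB hc h0 h1 h2 h3
    (Int.natCast_nonneg _) (Int.natCast_nonneg _) (Int.natCast_nonneg _) (Int.natCast_nonneg _)
  have hm0' : m 0 = 2 := by exact_mod_cast hm0
  have hm2' : m 2 = 0 := by exact_mod_cast hm2
  have hm3' : m 3 = 1 := by exact_mod_cast hm3
  have hs := swap_cases (fb := fb) (sy := 2 * dy - 64) (fz := fz) (r0 := (p 0 : ℤ) - q 0) (r2 := (p 2 : ℤ) - q 2)
    (r3 := (p 3 : ℤ) - q 3) (by linear_combination t0) (by linear_combination t2) (by linear_combination t3)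
    (by omega) (by omega) (by omega)
  have := hy rfl rfl
  clear h0 h1 h2 h3 t0 t2 t3 hy hc hA hB e0 e2 e3 hm0 hm2 hm3
  omega

variable {F : Type} [Field F] [Fintype F]

/-- A group with such sums has no faithful map into E8. -/
theorem false_of_sums (hF : Odd (Fintype.card F)) {P : Type*} [Group P] (φ : P →* ↥(chevE8.group F))
    (hφ : Function.Injective φ)
    (hs : ∃ xA xB xa xb xc y z : P,
      xA * xA = 1 ∧ xA ≠ 1 ∧ xB * xB = 1 ∧ xB ≠ 1 ∧ IsConj xA (xc * xc) ∧ IsConj xc (y * y) ∧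
      ∃ m p q : Fin 4 → ℕ,
        let n : ℤ := finrank F (chevE8.Idx → F)
        let f : P → ℤ := fun x => sgnSum ((rep chevE8 F).comp φ x)
        n + 3 * f xA + 18 * (f xa + f xb) + 108 * f xc + 108 * f xB = 256 * m 0 ∧
        n + 3 * f xA + 10 * (f xa + f xb) + 12 * f xc - 36 * f xB = 256 * m 1 ∧
        n + 3 * f xA + 2 * (f xa + f xb) - 20 * f xc + 12 * f xB = 256 * m 2 ∧
        n + 3 * f xA - 6 * (f xa + f xb) + 12 * f xc - 4 * f xB = 256 * m 3 ∧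
        p 0 + q 0 = m 0 ∧
        2 * (f xA + f xc) + 6 * (f xb + f xB) + 12 * f y + 36 * f z = 64 * ((p 0 : ℤ) - q 0) ∧
        p 2 + q 2 = m 2 ∧
        2 * (f xA + f xc) + 6 * (f xb + f xB) - 4 * f y - 12 * f z = 64 * ((p 2 : ℤ) - q 2) ∧
        p 3 + q 3 = m 3 ∧
        2 * (f xA + f xc) - 2 * (f xb + f xB) - 4 * f y + 4 * f z = 64 * ((p 3 : ℤ) - q 3)) :
    False := by
  obtain ⟨xA, xB, xa, xb, xc, y, z, hA, hA1, hB, hB1, hc, hy, m, p, q, hh⟩ := hs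
  obtain ⟨S, hS⟩ : ∃ S : P → ℕ, ∀ x, S x = fdim (rep chevE8 F (φ x)) := ⟨_, fun _ => rfl⟩
  have hf : ∀ x, sgnSum ((rep chevE8 F).comp φ x) = 2 * (S x : ℤ) - (S (x * x) : ℤ) := fun x => by
    rw [MonoidHom.comp_apply, sgnSum, ← map_pow, ← map_pow, pow_two, hS, hS]
  have h1 : S 1 = 248 := by rw [hS, map_one, fdim_one]
  have hconj : ∀ {x w : P}, IsConj x w → S w = S x := fun h => by rw [hS, hS]; exact fdim_of_isConj (φ.map_isConj h)
  have hinv : ∀ {x : P}, x * x = 1 → x ≠ 1 → S x = 120 ∨ S x = 136 := fun hx hx1 => by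
    rw [hS]
    exact E8SL2.fixd_involution hF (by rw [← map_mul, hx, map_one]) fun h => hx1 (hφ (h.trans (map_one φ).symm))
  have hc2 : φ xc ^ 2 ≠ 1 := fun h => by
    rw [← map_pow] at h
    have h' := hφ (h.trans (map_one φ).symm)
    rw [pow_two] at h'
    rw [h'] at hc
    exact hA1 (isConj_one_left.1 hc)
  have hc4 : xc ^ 4 = 1 := by
    obtain ⟨g, hg⟩ := isConj_iff.1 hc
    rw [show 4 = 2 * 2 from rfl, pow_mul, pow_two xc, ← hg, conj_pow, pow_two, hA, mul_one, mul_inv_cancel]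
  have hopt := fdim_four hF (x := φ xc) (by rw [← map_pow, hc4, map_one]) hc2
  rw [← map_pow, pow_two, ← hS, ← hS, hconj hc] at hopt
  simp only [List.mem_cons, List.not_mem_nil, or_false] at hopt
  have hy8 : S xA = 120 → S xc = 64 → S y = 32 ∨ S y = 34 ∨ S y = 40 ∨ S y = 50 ∨ S y = 64 := fun e1 e2 => by
    obtain ⟨g, hg⟩ := isConj_iff.1 hy
    have e4 : y ^ 4 = g * (xc * xc) * g⁻¹ := by
      rw [show 4 = 2 * 2 from rfl, pow_mul, pow_two y, ← hg, conj_pow, pow_two]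
    have := (fdim_eight hF (x := φ y) (by
        rw [← map_pow, show 8 = 4 * 2 from rfl, pow_mul, e4, conj_pow, ← pow_two xc, ← pow_mul, hc4, mul_one,
          mul_inv_cancel, map_one])
      (by rw [← map_pow, e4, ← hS, hconj (isConj_iff.2 ⟨g, rfl⟩), hconj hc, e1])
      (by rw [← map_pow, pow_two, ← hS, hconj hy, e2])).1
    rw [← hS] at this
    simpa using this
  obtain ⟨k0, k1, k2, k3, e0, t0, e2, t2, e3, t3⟩ := hh
  have hn : (finrank F (chevE8.Idx → F) : ℤ) = 248 := by exact_mod_cast finrank_space F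
  have fA : sgnSum ((rep chevE8 F).comp φ xA) = 2 * (S xA : ℤ) - 248 := by rw [hf, hA, h1]; rfl
  have fB : sgnSum ((rep chevE8 F).comp φ xB) = 2 * (S xB : ℤ) - 248 := by rw [hf, hB, h1]; rfl
  have fc : sgnSum ((rep chevE8 F).comp φ xc) = 2 * (S xc : ℤ) - (S xA : ℤ) := by rw [hf, hconj hc]
  have fy : sgnSum ((rep chevE8 F).comp φ y) = 2 * (S y : ℤ) - (S xc : ℤ) := by rw [hf, hconj hy]
  obtain ⟨U, hU⟩ : ∃ U, U = sgnSum ((rep chevE8 F).comp φ xa) + sgnSum ((rep chevE8 F).comp φ xb) := ⟨_, rfl⟩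
  dsimp only at k0 k1 k2 k3 t0 t2 t3
  rw [hn, fA, fc, fB, ← hU] at k0 k1 k2 k3
  rw [fA, fc, fB, fy] at t0 t2 t3
  refine sums_false (dA := (S xA : ℤ)) (dB := (S xB : ℤ)) (dc := (S xc : ℤ)) (dy := (S y : ℤ))
    ?_ ?_ ?_ ?_ k0 k1 k2 k3 e0 t0 e2 t2 e3 t3
  · rcases hinv hA hA1 with h | h <;> rw [h]
    · exact Or.inl rfl
    · exact Or.inr rfl
  · rcases hinv hB hB1 with h | h <;> rw [h]
    · exact Or.inl rfl
    · exact Or.inr rfl
  · exact_mod_cast hopt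
  · intro a b
    exact_mod_cast hy8 (by exact_mod_cast a) (by exact_mod_cast b)

end CfsgLib.Known.E8Sub
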