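import Cfsg.Agent.Lib.Known.E8Sub.SquareNS
import Cfsg.Agent.Lib.Known.E8Sub.RootChar

/-!
# Monomial elements with square in the torus descend to the torus

When the values on the negated roots are squares, a monomial element whose square lies in the torus is
conjugate into the torus inside the centraliser of the square.
-/

set_option autoImplicit false
set_option maxHeartbeats 1600000

namespace CfsgLib.Known.E8Sub

open Cfsg.Lie (ChevalleyDatum)
open CfsgLib.Lie.Chev
open CfsgLib.Lie.OddInvolution (CartanOK Setup sl_step isMon_conj conj_neg qgen_inv invN_qgen_mul_le eta_cases root_ext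
  coef_wperm coef_negF wperm_fix)

variable {D : ChevalleyDatum} {X : Aux} {F : Type*} [Field F] {G : Type*} [Group G] (R : Rel D X F G)

/-- The permutation of an element with square in the torus is an involution. -/
theorem nsPerm_invol_of_sq {t : G} (ht : t ∈ R.HS) (n : R.NS) (hn : (n : G) * n = t) (r : Fin D.nroots) :
    R.nsPerm n (R.nsPerm n r) = r := by
  have h := R.nsPerm_of_mem_HS (n * n) (by rw [Subgroup.coe_mul, hn]; exact ht)
  rw [map_mul] at h
  exact congrArg (fun e : Equiv.Perm _ => e r) h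

theorem mlin_comp {p : Fin D.nroots → Fˣ} (hp : MLin R p) {σ : Equiv.Perm (Fin D.nroots)} (hσ : R.IsLin σ) :
    MLin R fun r => p (σ r) := by
  intro r
  show p (σ r) = ∏ j : Fin D.rank, p (σ (R.sroot j)) ^ X.coef j (r : ℕ)
  rw [hp (σ r)]
  simp_rw [hσ r, hp (σ (R.sroot _)), zpow_finset_sum, ← Finset.prod_zpow]
  rw [Finset.prod_comm]
  exact Finset.prod_congr rfl fun j _ => Finset.prod_congr rfl fun i _ => by rw [← zpow_mul, mul_comm]

/-- A monomial element commuting with a torus element preserves its character. -/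
theorem char_nsPerm {t : G} {p : Fin D.nroots → Fˣ} (ht : R.IsMon t 1 fun r => (p r : F)) (n : R.NS)
    (hn : Commute (n : G) t) (r : Fin D.nroots) : p (R.nsPerm n r) = p r := by
  obtain ⟨b, hb⟩ := R.isMon_nsPerm n
  have h1 := isMon_conj R hb ht
  rw [hn.eq, mul_inv_cancel_right] at h1
  have e := congrFun (R.isMon_unique ht h1).2 (R.nsPerm n r)
  rw [Equiv.Perm.inv_def, Equiv.symm_apply_apply] at e
  exact Units.ext e

/-- A monomial element with square in the torus descends to the torus. -/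
theorem exists_conj_HS_of_sq (hC : CartanOK D) (h2 : (2 : F) ≠ 0) {Good : F → Prop}
    (S : Setup R (MonoidHom.id G) (RingHom.id F) Good) (N : ℕ) :
    ∀ (n : R.NS) (t : G) (p : Fin D.nroots → Fˣ), t ∈ R.HS → MLin R p → R.IsMon t 1 (fun r => (p r : F)) →
      R.invN (R.qmk n) ≤ N → (n : G) * n = t → Commute (n : G) t →
      (∀ a, R.IsMon n (R.nsPerm n) a → ∀ r, R.nsPerm n r = R.negF r → Good (a r)) →
      ∃ y, Commute y t ∧ ∃ h ∈ R.HS, y * n * y⁻¹ = h := by
  induction N using Nat.strong_induction_on with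
  | _ N ih =>
  intro n t p htH hp ht hN hn hnt hgood
  by_cases hone : R.qmk n = 1
  · exact ⟨1, Commute.one_left _, n, R.qmk_eq_one.1 hone, by rw [one_mul, inv_one, mul_one]⟩
  have hinvol := nsPerm_invol_of_sq R htH n hn
  obtain ⟨a, ha⟩ := R.isMon_nsPerm n
  -- conjugation by a simple monomial element
  have hconj : ∀ k : Fin D.rank, ∃ (n' : R.NS) (t' : G) (p' : Fin D.nroots → Fˣ),
      (n' : G) = R.ne (D.simple k) 1 * n * (R.ne (D.simple k) 1)⁻¹ ∧
      R.qmk n' = R.qgen k * R.qmk n * R.qgen k ∧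
      (∀ r, p' r = p (R.wperm k r)) ∧
      t' = R.ne (D.simple k) 1 * t * (R.ne (D.simple k) 1)⁻¹ ∧ t' ∈ R.HS ∧ MLin R p' ∧
      R.IsMon t' 1 (fun r => (p' r : F)) ∧ (n' : G) * n' = t' ∧ Commute (n' : G) t' ∧
      (∀ b, R.IsMon n' (R.nsPerm n') b → ∀ r, R.nsPerm n' r = R.negF r → Good (b r)) := by
    intro k
    have hperm : R.nsPerm (R.nS k * n * (R.nS k)⁻¹) = R.wperm k * R.nsPerm n * (R.wperm k)⁻¹ := by
      rw [map_mul, map_mul, map_inv, R.nsPerm_nS]
    refine ⟨R.nS k * n * (R.nS k)⁻¹, R.ne (D.simple k) 1 * t * (R.ne (D.simple k) 1)⁻¹, fun r => p (R.wperm k r),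
      rfl, ?_, fun r => rfl, rfl, R.HS_conj (R.ne_simple_mem_NS k one_ne_zero) htH, ?_, ?_, ?_, ?_, ?_⟩
    · rw [map_mul, map_mul, map_inv, show R.qmk (R.nS k) = R.qgen k from rfl, qgen_inv R]
    · exact mlin_comp R hp (R.isLin_wperm k)
    · have h := isMon_conj R (R.isMon_ne_simple k one_ne_zero) ht
      rwa [show (R.wperm k)⁻¹ = R.wperm k from inv_eq_of_mul_eq_one_right (R.wperm_mul_self k)] at h
    · show R.ne (D.simple k) 1 * n * (R.ne (D.simple k) 1)⁻¹ *
        (R.ne (D.simple k) 1 * n * (R.ne (D.simple k) 1)⁻¹) = _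
      rw [← hn]; group
    · exact (Commute.conj_iff (R.ne (D.simple k) 1)).2 hnt
    · intro b hb r hr
      have h1 := R.isMon_mul (R.isMon_mul (R.isMon_ne_simple k (c := (1 : F)) one_ne_zero) ha)
        (R.isMon_inv (R.isMon_ne_simple k (c := (1 : F)) one_ne_zero))
      have e := congrFun (R.isMon_unique hb h1).2 r
      rw [e]
      obtain ⟨s, hs⟩ : ∃ s, s = (R.wperm k)⁻¹ r := ⟨_, rfl⟩
      have hrs : r = R.wperm k s := by rw [hs, Equiv.Perm.inv_def, Equiv.apply_symm_apply]
      have hsneg : R.nsPerm n s = R.negF s := by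
        refine (R.wperm k).injective ?_
        have h3 : R.wperm k (R.nsPerm n s) = R.negF r := by
          rw [← hr, hperm, Equiv.Perm.mul_apply, Equiv.Perm.mul_apply, ← hs]
        rw [h3, hrs]
        exact (Fin.ext (R.cert.w_neg k.2 s.2)).symm
      simp only [← hs, one_zpow, mul_one]
      rcases eta_cases (X := X) (F := F) k (R.nsPerm n s : ℕ) with h3 | h3 <;>
        rcases eta_cases (X := X) (F := F) k (s : ℕ) with h4 | h4 <;> rw [h3, h4]
      all_goals first
        | simpa using hgood a ha s hsneg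
        | simpa using S.good_neg _ (hgood a ha s hsneg)
  have hback : ∀ k : Fin D.rank, ∀ y, Commute y (R.ne (D.simple k) 1 * t * (R.ne (D.simple k) 1)⁻¹) →
      ∀ h ∈ R.HS, y * (R.ne (D.simple k) 1 * n * (R.ne (D.simple k) 1)⁻¹) * y⁻¹ = h →
      ∃ y, Commute y t ∧ ∃ h ∈ R.HS, y * n * y⁻¹ = h := by
    intro k y hy h hh e
    refine ⟨(R.ne (D.simple k) 1)⁻¹ * y * R.ne (D.simple k) 1, ?_, (R.ne (D.simple k) 1)⁻¹ * h * R.ne (D.simple k) 1,
      by simpa using R.HS_conj (inv_mem (R.ne_simple_mem_NS k one_ne_zero)) hh, ?_⟩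
    · refine (Commute.conj_iff (R.ne (D.simple k) 1)).1 ?_
      simpa [mul_assoc] using hy
    · rw [← e]; group
  -- a descent which is not negated
  by_cases hcase : ∃ k, ¬ half D ≤ (R.qact (R.qmk n) (R.sroot k) : ℕ) ∧
      R.nsPerm n (R.sroot k) ≠ R.negF (R.sroot k)
  · obtain ⟨k, hk, hkne⟩ := hcase
    obtain ⟨n', t', p', hn', hq, -, ht', ht'H, hp', ht'm, hn'1, hn't, hgood'⟩ := hconj k
    have hdec : R.invN (R.qmk n') < R.invN (R.qmk n) := by
      have hA := R.invN_mul_simple hk
      have hB : half D ≤ (R.qact (R.qgen k * (R.qmk n * R.qgen k))⁻¹ (R.sroot k) : ℕ) := by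
        have hwi : ∀ r, R.qact (R.qmk n)⁻¹ r = R.nsPerm n r := fun r => by
          refine (R.qact (R.qmk n)).injective ?_
          rw [R.qact_inv_apply, R.qact_qmk, hinvol]
        rw [mul_inv_rev, mul_inv_rev, qgen_inv R, R.qact_mul_apply, R.qact_mul_apply, R.qact_qgen,
          R.wperm_sroot, hwi, R.nsPerm_negF]
        refine R.wperm_pos k _ ((R.negF_pos_iff _).2 hk) fun e => hkne ?_
        conv_rhs => rw [← e]
        rw [R.negF_negF]
      have hC' := R.invN_simple_mul hB
      rw [R.qgen_genInv.cancel] at hC'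
      rw [hq, mul_assoc]
      omega
    obtain ⟨y, hy, h, hh, e⟩ := ih _ (lt_of_lt_of_le hdec hN) n' t' p' ht'H hp' ht'm le_rfl hn'1 hn't hgood'
    rw [hn'] at e
    rw [ht'] at hy
    exact hback k y hy h hh e
  push Not at hcase
  -- the rank one step
  have hstep : ∀ (k : Fin D.rank) (m : R.NS) (s : G) (q : Fin D.nroots → Fˣ), s ∈ R.HS → MLin R q →
      R.IsMon s 1 (fun r => (q r : F)) → R.invN (R.qmk m) ≤ N → (m : G) * m = s → Commute (m : G) s →
      (∀ b, R.IsMon m (R.nsPerm m) b → ∀ r, R.nsPerm m r = R.negF r → Good (b r)) →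
      R.nsPerm m (R.sroot k) = R.negF (R.sroot k) → q (R.sroot k) = 1 →
      ∃ y, Commute y s ∧ ∃ h ∈ R.HS, y * m * y⁻¹ = h := by
    intro k m s q hsH hq hs hmN hm hms hmgood hmk hq0
    obtain ⟨b, hb⟩ := R.isMon_nsPerm m
    obtain ⟨g, d, hd, hgd⟩ := sl_step R S k hb hmk (hmgood b hb _ hmk)
    simp only [MonoidHom.id_apply] at hgd
    obtain ⟨m', hm'⟩ : ∃ m' : R.NS, (m' : G) = R.ne (D.simple k) d * m :=
      ⟨⟨_, mul_mem (R.ne_simple_mem_NS k hd) m.2⟩, rfl⟩
    have hm'eq : m' = ⟨R.ne (D.simple k) d, R.ne_simple_mem_NS k hd⟩ * m := Subtype.ext hm'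
    have hcomm : Commute (R.slHom (R.sroot k) g) s := by
      have hgen : ∀ r : Fin D.nroots, q r = 1 → ∀ u, Commute (R.xe r u) s := fun r hr u => by
        have h := (hs r).2.2.2 u
        simp only [hr, Units.val_one, one_mul, Equiv.Perm.one_apply] at h
        exact (mul_inv_eq_iff_eq_mul.1 h).symm
      have hneg0 : q (R.negF (R.sroot k)) = 1 := by rw [mlin_negF R hq, hq0, inv_one]
      have hle : (R.slHom (R.sroot k)).range ≤ Subgroup.centralizer {s} := by
        rw [R.slHom_range]
        refine sup_le ((Subgroup.closure_le _).2 ?_) ((Subgroup.closure_le _).2 ?_) <;> rintro _ ⟨u, rfl⟩ <;>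
          rw [SetLike.mem_coe, Subgroup.mem_centralizer_singleton_iff]
        · exact (hgen _ hq0 u).eq
        · exact (hgen _ hneg0 u).eq
      exact Subgroup.mem_centralizer_singleton_iff.1 (hle ⟨g, rfl⟩)
    have hm's : Commute (m' : G) s := by
      rw [hm', ← hgd]
      exact (hcomm.mul_left hms).mul_left hcomm.inv_left
    have hm'1 : (m' : G) * m' = s := by
      rw [hm', ← hgd]
      calc _ = R.slHom (R.sroot k) g * ((m : G) * m) * (R.slHom (R.sroot k) g)⁻¹ := by group
        _ = s := by rw [hm, hcomm.eq, mul_inv_cancel_right]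
    have hperm : R.nsPerm m' = R.wperm k * R.nsPerm m := by
      rw [hm'eq, map_mul, R.nsPerm_eq (g := ⟨R.ne (D.simple k) d, _⟩) (R.isMon_ne_simple k hd)]
    have hdec : R.invN (R.qmk m') < R.invN (R.qmk m) := by
      have hqm : R.qmk m' = R.qgen k * R.qmk m := by rw [hm'eq, map_mul, R.qmk_ne k hd]
      have hpos : half D ≤ (R.qact (R.qgen k * R.qmk m)⁻¹ (R.sroot k) : ℕ) := by
        have hmi : R.qact (R.qmk m)⁻¹ (R.sroot k) = R.negF (R.sroot k) := by
          refine (R.qact (R.qmk m)).injective ?_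
          rw [R.qact_inv_apply, R.qact_negF, R.qact_qmk, hmk, R.negF_negF]
        rw [mul_inv_rev, qgen_inv R, R.qact_mul_apply, R.qact_qgen, R.wperm_sroot, R.qact_negF, hmi,
          R.negF_negF]
        exact R.sroot_pos k
      have h := R.invN_simple_mul hpos
      rw [R.qgen_genInv.cancel, ← hqm] at h
      omega
    refine (ih _ (lt_of_lt_of_le hdec hmN) m' s q hsH hq hs le_rfl hm'1 hm's ?_).elim ?_
    · intro b' hb' r hr
      have hmul := R.isMon_mul (R.isMon_ne_simple k hd) hb
      rw [← hm', ← hperm] at hmul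
      rw [congrFun (R.isMon_unique hb' hmul).2 r]
      -- the simple root is fixed, so the reflection fixes the root
      have hcart : D.cartan k (r : ℕ) = 0 := by
        have e1 : R.nsPerm m r = R.wperm k (R.negF r) := by
          rw [← hr, hperm, Equiv.Perm.mul_apply, R.wperm_invol]
        have e2 : R.nsPerm m' (R.sroot k) = R.sroot k := by
          rw [hperm, Equiv.Perm.mul_apply, hmk, ← R.wperm_sroot, R.wperm_invol]
        have e4 : R.nsPerm m' (R.wperm k r) = R.negF (R.wperm k r) := by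
          have h5 : R.nsPerm m (R.wperm k r) = R.negF r := by
            refine (R.nsPerm m).injective ?_
            have : R.nsPerm m (R.nsPerm m (R.wperm k r)) = R.wperm k r := nsPerm_invol_of_sq R hsH m hm _
            rw [this, R.nsPerm_negF, e1]
            rw [show R.negF (R.wperm k (R.negF r)) = R.wperm k r from by
              refine Fin.ext ?_
              show D.neg (X.w k (D.neg r)) = X.w k r
              rw [R.cert.w_neg k.2 r.2, R.cert.neg_neg (R.cert.w_lt k.2 r.2)]]
          rw [hperm, Equiv.Perm.mul_apply, h5]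
          exact Fin.ext (R.cert.w_neg k.2 r.2)
        have hl := R.isLin_nsPerm m' (R.wperm k r) k
        have hl0 := R.isLin_nsPerm m' r k
        rw [e4] at hl
        rw [hr] at hl0
        have hcw : ∀ j : Fin D.rank, X.coef j (R.wperm k r : ℕ) =
            X.coef j (r : ℕ) - if j = k then D.cartan k (r : ℕ) else 0 := by
          intro j
          rw [R.wperm_apply, R.cert.coef_w k.2 r.2 j.2]
          by_cases h : j = k
          · subst h; simp
          · rw [if_neg (fun e => h (Fin.ext e)), if_neg h, sub_zero]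
        simp only [hcw, sub_mul, Finset.sum_sub_distrib, ite_mul, zero_mul, Finset.sum_ite_eq', Finset.mem_univ,
          if_true, e2, R.coef_sroot, mul_one] at hl
        rw [← hl0] at hl
        have hn1 : X.coef k (R.negF (R.wperm k r) : ℕ) = -(X.coef k (r : ℕ) - D.cartan k (r : ℕ)) := by
          show X.coef k (D.neg (R.wperm k r : ℕ)) = _
          rw [R.cert.coef_neg (R.wperm k r).2 k.2, hcw, if_pos rfl]
        have hn2 : X.coef k (R.negF r : ℕ) = -X.coef k (r : ℕ) := R.cert.coef_neg r.2 k.2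
        omega
      have hmr : R.nsPerm m r = R.negF r := by
        have e1 : R.nsPerm m r = R.wperm k (R.negF r) := by
          rw [← hr, hperm, Equiv.Perm.mul_apply, R.wperm_invol]
        rw [e1]
        refine wperm_fix R k ?_
        show D.cartan k (D.neg r) = 0
        rw [R.cert.cartan_neg r.2 k.2, hcart, neg_zero]
      have h0 : D.cartan k (R.nsPerm m r : ℕ) = 0 := by
        rw [hmr]
        show D.cartan k (D.neg r) = 0
        rw [R.cert.cartan_neg r.2 k.2, hcart, neg_zero]
      rw [h0, neg_zero, zpow_zero, mul_one]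
      rcases eta_cases (X := X) (F := F) k (R.nsPerm m r : ℕ) with h3 | h3 <;> rw [h3]
      · simpa using hmgood b hb r hmr
      · simpa using S.good_neg _ (hmgood b hb r hmr)
    · rintro y ⟨hy, h, hh, e⟩
      refine ⟨y * R.slHom (R.sroot k) g, hy.mul_left hcomm, h, hh, ?_⟩
      rw [← e, hm', ← hgd]; group
  rcases exists_trivial_descent R hC h2 hp (R.qmk n) hone
      (fun r => by rw [R.qact_qmk]; exact char_nsPerm R ht n hnt r)
      (fun k hk => by rw [R.qact_qmk]; exact hcase k (not_le.1 hk)) with ⟨k, hk, hpk⟩ | ⟨i, j, hij, hi, hj, hpij⟩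
  · exact hstep k n t p htH hp ht hN hn hnt hgood hk hpk
  · obtain ⟨n', t', p', hn', hq, hp'e, ht', ht'H, hp', ht'm, hn'1, hn't, hgood'⟩ := hconj i
    rw [R.qact_qmk] at hi hj
    have hle : R.invN (R.qmk n') ≤ R.invN (R.qmk n) := by
      have hA := R.invN_mul_simple (u := R.qmk n) (k := i) (by
        rw [R.qact_qmk, hi, R.negF_pos_iff, not_not]; exact R.sroot_pos i)
      rw [hq, mul_assoc, hA]
      exact invN_qgen_mul_le R _ i
    have hj' : R.nsPerm n' (R.sroot j) = R.negF (R.sroot j) := by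
      rw [← R.qact_qmk, hq, R.qact_mul_apply, R.qact_mul_apply, R.qact_qgen, R.qact_qmk]
      exact conj_neg R (R.isLin_nsPerm n) hi hj
    obtain ⟨y, hy, h, hh, e⟩ := hstep j n' t' p' ht'H hp' ht'm (hle.trans hN) hn'1 hn't hgood' hj'
      (by rw [hp'e]; exact hpij)
    rw [hn'] at e
    rw [ht'] at hy
    exact hback i y hy h hh e

end CfsgLib.Known.E8Sub
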