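import Cfsg.Agent.Lib.Lie.OddInvolution.Classes

/-!
# Elements whose square lies in the torus normalise a maximal torus

An automorphism which squares to the identity on the centraliser of a torus element suffices for the twisted
conjugation into the monomial group; conjugation by a square root in the torus of the square is one.
-/

set_option autoImplicit false

namespace CfsgLib.Known.E8Sub

open Cfsg.Lie (ChevalleyDatum)
open CfsgLib.Lie.Chev
open CfsgLib.Lie.OddInvolution (commute_factors)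

variable {D : ChevalleyDatum} {X : Aux} {F : Type*} [Field F] {G : Type*} [Group G] (R : Rel D X F G)

/-- An automorphism compatible with the root data, of order two on the centraliser of an element. -/
structure CompatAt (t : G) (φ : G →* G) : Prop where
  invol : ∀ g, Commute g t → φ (φ g) = g
  map_UP : ∀ g ∈ R.UP, φ g ∈ R.UP
  map_HS : ∀ g ∈ R.HS, φ g ∈ R.HS
  map_NS : ∀ n : R.NS, ∃ m : R.NS, φ n = m ∧ R.nsPerm m = R.nsPerm n

/-- Twisted conjugation into the monomial group. -/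
theorem exists_twisted_conj_NS_local {φ : G →* G} {t : G} (hφ : CompatAt R t φ) (hodd : ∀ v ∈ R.UP, Odd (orderOf v))
    (ht : t ∈ R.HS) (hφt : φ t = t) {g : G} (hgt : Commute g t) (hg : g * φ g = 1) :
    ∃ y, Commute y t ∧ ∃ n : R.NS, y * g * (φ y)⁻¹ = n := by
  obtain ⟨b, hb, n, u, hu, rfl⟩ := R.exists_bnu g
  obtain ⟨w, hw, h, hh, rfl⟩ := R.exists_of_mem_BS hb
  obtain ⟨hwt, hut, hnt⟩ := commute_factors R ht hw hh n hu hgt.eq
  have cw : Commute w t := (mul_inv_eq_iff_eq_mul.1 hwt).symm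
  have ch : Commute h t := R.HS_isMulCommutative hh ht
  have cu : Commute u t := (mul_inv_eq_iff_eq_mul.1 hut).symm
  have cn : Commute (n : G) t := hnt
  have cφ : ∀ z, Commute z t → Commute (φ z) t := fun z hz => by
    have h := congrArg φ hz.eq
    rwa [map_mul, map_mul, hφt] at h
  -- the first twisted conjugate
  obtain ⟨n', hn'⟩ : ∃ n' : R.NS, (n' : G) = n * φ h :=
    ⟨⟨n * φ h, mul_mem n.2 (R.HS_le_NS (hφ.map_HS h hh))⟩, rfl⟩
  have hperm : R.nsPerm n' = R.nsPerm n := by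
    rw [show n' = n * ⟨φ h, R.HS_le_NS (hφ.map_HS h hh)⟩ from Subtype.ext hn', map_mul,
      R.nsPerm_of_mem_HS ⟨_, R.HS_le_NS (hφ.map_HS h hh)⟩ (hφ.map_HS h hh), mul_one]
  obtain ⟨v, hv⟩ : ∃ v, v = (φ h)⁻¹ * (u * φ w) * φ h := ⟨_, rfl⟩
  have hvUP : v ∈ R.UP := by
    have h1 := (Subgroup.mem_normalizer_iff.1 (R.HS_le_normalizer_US _ (inv_mem (hφ.map_HS h hh))) (u * φ w)).1
      (mul_mem (R.US_mono (Rel.invSet_subset _) hu) (hφ.map_UP w hw))
    rwa [inv_inv, ← hv] at h1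
  obtain ⟨a, ha⟩ : ∃ a, a = (w * h)⁻¹ * (w * h * n * u) * φ (w * h) := ⟨_, rfl⟩
  have hat : Commute a t := ha ▸ ((cw.mul_left ch).inv_left.mul_left hgt).mul_left (cφ _ (cw.mul_left ch))
  have hanv : a = (n' : G) * v := by rw [ha, hn', hv, map_mul]; group
  have hatw : a * φ a = 1 := by
    have key : ∀ x y : G, Commute x t → x⁻¹ * y * φ x * φ (x⁻¹ * y * φ x) = x⁻¹ * (y * φ y) * x := fun x y hx => by
      rw [map_mul, map_mul, map_inv, hφ.invol x hx]
      group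
    rw [ha, key _ _ (cw.mul_left ch), hg, mul_one, inv_mul_cancel]
  -- its Bruhat form
  obtain ⟨p, hp, m, hm, hpm⟩ := R.exists_UP_factor (R.nsPerm n') hvUP
  obtain ⟨n1, hn1, hperm1⟩ := hφ.map_NS n'
  have hφa : a = (φ v)⁻¹ * (φ n')⁻¹ := by
    rw [← mul_inv_rev, ← map_mul, ← hanv]
    exact eq_inv_of_mul_eq_one_left hatw
  have hform : ((n' : G) * p * (n' : G)⁻¹) * n' * m = (φ v)⁻¹ * (n1⁻¹ : R.NS) * 1 := by
    rw [mul_one, Subgroup.coe_inv, ← hn1, ← hφa, hanv, hpm]; group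
  have hk : (n' : G)⁻¹ * ((n1⁻¹ : R.NS) : G) ∈ R.HS :=
    R.bnu_weyl (n := n') (n' := n1⁻¹) (R.UP_le_BS (R.conj_keep hp)) (R.UP_le_BS (inv_mem (hφ.map_UP v hvUP)))
      (R.US_mono (Rel.invSet_subset _) hm) (one_mem _) hform
  obtain ⟨k, hkdef⟩ : ∃ k, k = (n' : G)⁻¹ * ((n1⁻¹ : R.NS) : G) := ⟨_, rfl⟩
  rw [← hkdef] at hk
  obtain ⟨e1, e2⟩ := R.bnu_unique (n := n') (b := (n' : G) * p * (n' : G)⁻¹)
    (b' := (φ v)⁻¹ * ((n' : G) * k * (n' : G)⁻¹)) (u := m) (u' := 1) (R.UP_le_BS (R.conj_keep hp))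
    (mul_mem (R.UP_le_BS (inv_mem (hφ.map_UP v hvUP))) (R.HS_le_BS (R.HS_conj n'.2 hk))) hm (one_mem _)
    (by rw [hform, hkdef]; group)
  rw [e2, mul_one] at hpm
  have hk1 : (n' : G) * k * (n' : G)⁻¹ = 1 := by
    refine (Subgroup.eq_bot_iff_forall _).1 R.UP_inf_HS _ (Subgroup.mem_inf.2 ⟨?_, R.HS_conj n'.2 hk⟩)
    have h1 := mul_mem (hφ.map_UP v hvUP) (R.conj_keep hp)
    rwa [e1, mul_inv_cancel_left] at h1
  rw [hk1, mul_one, ← hpm] at e1
  -- the square root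
  obtain ⟨j, hj⟩ := hodd v hvUP
  obtain ⟨x, hx⟩ : ∃ x, x = v ^ (j + 1) := ⟨_, rfl⟩
  have hxx : x * x = v := by
    rw [hx, ← pow_add, show j + 1 + (j + 1) = orderOf v + 1 by omega, pow_succ, pow_orderOf_eq_one, one_mul]
  have hxn : (n' : G) * x * (n' : G)⁻¹ = (φ x)⁻¹ := by
    rw [hx, ← conj_pow, e1, inv_pow, map_pow]
  have cx : Commute x t := by
    rw [hx]
    refine Commute.pow_left ?_ _
    rw [show v = (n' : G)⁻¹ * a by rw [hanv, inv_mul_cancel_left]]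
    refine Commute.mul_left (Commute.inv_left ?_) hat
    rw [hn']
    exact cn.mul_left (cφ _ ch)
  refine ⟨φ x * (w * h)⁻¹, Commute.mul_left (cφ _ cx) (cw.mul_left ch).inv_left, n', ?_⟩
  · calc φ x * (w * h)⁻¹ * (w * h * n * u) * (φ (φ x * (w * h)⁻¹))⁻¹
        = φ x * a * x⁻¹ := by rw [ha, map_mul, map_inv, hφ.invol x cx]; group
      _ = (n' : G) * ((n' : G)⁻¹ * φ x * n') * (x * x) * x⁻¹ := by rw [hanv, ← hxx]; group
      _ = n' := by
          rw [show φ x = ((n' : G) * x * (n' : G)⁻¹)⁻¹ by rw [hxn, inv_inv]]; group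

/-- An element with square in the torus is conjugate into the monomial group, inside the centraliser. -/
theorem exists_conj_NS_of_sq (hodd : ∀ v ∈ R.UP, Odd (orderOf v)) {h₀ : G} (h0 : h₀ ∈ R.HS) {g : G}
    (hg : g * g = h₀ * h₀) : ∃ y, Commute y (h₀ * h₀) ∧ ∃ n : R.NS, y * g * y⁻¹ = n := by
  obtain ⟨φ, hφ⟩ : ∃ φ : G →* G, φ = (MulAut.conj h₀).toMonoidHom := ⟨_, rfl⟩
  have hφa : ∀ x, φ x = h₀ * x * h₀⁻¹ := fun x => by rw [hφ]; rfl
  have hc : CompatAt R (h₀ * h₀) φ :=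
    { invol := fun x hx => by
        rw [hφa, hφa]
        calc h₀ * (h₀ * x * h₀⁻¹) * h₀⁻¹ = h₀ * h₀ * x * (h₀ * h₀)⁻¹ := by group
          _ = x := by rw [← hx.eq, mul_inv_cancel_right]
      map_UP := fun x hx => by rw [hφa]; exact (Subgroup.mem_normalizer_iff.1 (R.HS_le_normalizer_US _ h0) x).1 hx
      map_HS := fun x hx => by rw [hφa]; exact mul_mem (mul_mem h0 hx) (inv_mem h0)
      map_NS := fun n => by
        refine ⟨⟨h₀, R.HS_le_NS h0⟩ * n * ⟨h₀, R.HS_le_NS h0⟩⁻¹, by rw [hφa]; rfl, ?_⟩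
        rw [map_mul, map_mul, map_inv, R.nsPerm_of_mem_HS ⟨h₀, _⟩ h0, one_mul, inv_one, mul_one] }
  have hgt : Commute g (h₀ * h₀) := hg ▸ (Commute.refl g).mul_right (Commute.refl g)
  have hh : Commute h₀ (h₀ * h₀) := (Commute.refl h₀).mul_right (Commute.refl h₀)
  obtain ⟨y, hy, n, hn⟩ := exists_twisted_conj_NS_local R hc hodd (mul_mem h0 h0)
    (by rw [hφa]; group) (g := g * h₀⁻¹) (hgt.mul_left hh.inv_left)
    (by
      rw [hφa]
      calc g * h₀⁻¹ * (h₀ * (g * h₀⁻¹) * h₀⁻¹) = g * g * (h₀ * h₀)⁻¹ := by group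
        _ = 1 := by rw [hg, mul_inv_cancel])
  refine ⟨y, hy, n * ⟨h₀, R.HS_le_NS h0⟩, ?_⟩
  rw [Subgroup.coe_mul, ← hn, hφa]
  group

end CfsgLib.Known.E8Sub
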