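import Cfsg.Agent.Lib.Known.E8Sub.SquareHS

/-!
# Two-elements are toral over an extension field

In an adjoint group over a finite field of odd order every element of two-power order becomes conjugate into
the split torus over a suitable extension.
-/

set_option autoImplicit false
set_option maxHeartbeats 1600000
set_option linter.style.haveILetI false

namespace CfsgLib.Known.E8Sub

open Cfsg.Lie (ChevalleyDatum)
open CfsgLib.Lie.Chev
open CfsgLib.Lie.OddInvolution
open CfsgLib.Known.ChevFixed (groupMap groupMap_xe groupMap_injective)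

variable {D : ChevalleyDatum} {X : Aux}

theorem groupMap_comp {F L M : Type*} [Field F] [Field L] [Field M] (i : F →+* L) (j : L →+* M) (g : ↥(D.group F)) :
    groupMap D j (groupMap D i g) = groupMap D (j.comp i) g :=
  Subtype.ext (Units.ext (Matrix.ext fun _ _ => rfl))

theorem isSquare_map {F L : Type*} [Field F] [Fintype F] [Field L] [Fintype L] (ι : F →+* L)
    (hF : Odd (Fintype.card F)) (hL : Fintype.card L = Fintype.card F ^ 2) (d : F) (hd : d ≠ 0) :
    IsSquare (ι d) := by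
  have hLodd : Odd (Fintype.card L) := hL ▸ hF.pow
  rw [FiniteField.isSquare_iff (ringChar_ne_two hLodd) ((map_ne_zero ι).2 hd)]
  obtain ⟨j, hj⟩ := hF
  have e : Fintype.card L / 2 = (Fintype.card F - 1) * (j + 1) := by
    rw [hL, hj, show 2 * j + 1 - 1 = 2 * j by omega, show (2 * j + 1) ^ 2 = 2 * (2 * j * (j + 1)) + 1 by ring]
    omega
  rw [e, pow_mul, ← map_pow, FiniteField.pow_card_sub_one_eq_one d hd, map_one, one_pow]

/-- An element with square in the torus is toral over an extension. -/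
theorem exists_toral_of_sq (C : Cert D X) (hC : CartanOK D) {F : Type} [Field F] [Fintype F]
    (hF : Odd (Fintype.card F)) {g : ↥(D.group F)} (ht : g * g ∈ (chevRel C F).HS) :
    ∃ (M : Type) (_ : Field M) (_ : Fintype M) (ι : F →+* M), Odd (Fintype.card M) ∧
      Fintype.card F - 1 ∣ Fintype.card M - 1 ∧
      ∃ Y : ↥(D.group M), Y * groupMap D ι g * Y⁻¹ ∈ (chevRel C M).HS := by
  classical
  obtain ⟨L, iL, fL, ι, -, hL, -⟩ := exists_quadratic_frobenius (F := F)
  obtain ⟨M, iM, fM, κ, -, hM, -⟩ := exists_quadratic_frobenius (F := L)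
  have hLodd : Odd (Fintype.card L) := hL ▸ hF.pow
  have hModd : Odd (Fintype.card M) := hM ▸ hLodd.pow
  -- a square root in the torus
  obtain ⟨c, hc⟩ := (chevRel C F).torusHom_surjective ⟨_, ht⟩
  have hz : ∀ i, ∃ z : Lˣ, z * z = Units.map (ι : F →* L) (c i) := fun i => by
    obtain ⟨x, hx⟩ := isSquare_map ι hF hL (c i : F) (c i).ne_zero
    have hx0 : x ≠ 0 := fun e => (c i).ne_zero ((map_eq_zero ι).1 (by rw [hx, e, mul_zero]))
    exact ⟨Units.mk0 x hx0, Units.ext hx.symm⟩
  choose z hz using hz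
  obtain ⟨h₀, hh₀⟩ : ∃ h₀, h₀ = (((chevRel C L).torusHom z : (chevRel C L).HS) : ↥(D.group L)) := ⟨_, rfl⟩
  have hsq : groupMap D ι g * groupMap D ι g = h₀ * h₀ := by
    rw [← map_mul, hh₀, ← Subgroup.coe_mul, ← map_mul,
      show g * g = (((chevRel C F).torusHom c : (chevRel C F).HS) : ↥(D.group F)) from (congrArg Subtype.val hc).symm,
      TrialityTorus.groupMap_torusHom]
    exact congrArg (fun z => (((chevRel C L).torusHom z : (chevRel C L).HS) : ↥(D.group L))) (funext fun i => (hz i).symm)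
  obtain ⟨y, hy, n, hn⟩ := exists_conj_NS_of_sq (chevRel C L) (odd_orderOf_UP C hLodd)
    (hh₀ ▸ SetLike.coe_mem _) hsq
  -- descend
  obtain ⟨J, hJ⟩ : ∃ J : ↥(D.group L) →* ↥(D.group M), J = groupMap D κ := ⟨_, rfl⟩
  have hJx : ∀ r t, J ((chevRel C L).xe r t) = (chevRel C M).xe r (κ t) := hJ ▸ groupMap_xe C κ
  obtain ⟨m, hm⟩ : ∃ m : (chevRel C M).NS, (m : ↥(D.group M)) = J n := ⟨⟨_, map_mem_NS C J κ hJx n.2⟩, rfl⟩
  have hnn : (n : ↥(D.group L)) * n = h₀ * h₀ := by
    rw [← hn, conj_mul, hsq, hy.eq, mul_inv_cancel_right]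
  have ht1 : h₀ * h₀ ∈ (chevRel C L).HS := hh₀ ▸ mul_mem (SetLike.coe_mem _) (SetLike.coe_mem _)
  have hmm : (m : ↥(D.group M)) * m = J (h₀ * h₀) := by rw [hm, ← map_mul, hnn]
  have hJt : J (h₀ * h₀) ∈ (chevRel C M).HS := map_mem_HS C J κ hJx ht1
  obtain ⟨p, hp, hpmon⟩ := exists_char (chevRel C M) hJt
  have h2 := two_ne_zero_of_odd hModd
  have S : Setup (chevRel C M) (MonoidHom.id _) (RingHom.id M) (fun c => c ∈ κ.range) :=
    { compat := compat_id C
      map_xe := fun _ _ => rfl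
      good_neg := fun c hc => neg_mem hc
      norm := by
        rintro c hc ⟨d, rfl⟩
        obtain ⟨x, hx⟩ := isSquare_map κ hLodd hM d (fun e => hc (by rw [e, map_zero]))
        have hx0 : x ≠ 0 := fun e => hc (by rw [hx, e, mul_zero])
        refine ⟨x, -x, fun e => hx0 ?_, hx.symm, by simp [hx]⟩
        rcases mul_eq_zero.1 (show (2 : M) * x = 0 by linear_combination e) with h | h
        · exact absurd h h2
        · exact h }
  obtain ⟨y₁, -, h, hh, hy₁⟩ := exists_conj_HS_of_sq (chevRel C M) hC h2 S _ m _ p hJt hp hpmon le_rfl hmm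
    (hmm ▸ (Commute.refl _).mul_right (Commute.refl _)) (fun b hb r _ => by
      obtain ⟨a, ha⟩ := (chevRel C L).isMon_nsPerm n
      exact ⟨_, ((map_isMon C J κ hJx ha hm hb r).2).symm⟩)
  refine ⟨M, iM, fM, κ.comp ι, hModd, ?_, y₁ * J y, ?_⟩
  · refine dvd_trans ?_ (hM ▸ Nat.sub_one_dvd_pow_sub_one (Fintype.card L) 2)
    exact hL ▸ Nat.sub_one_dvd_pow_sub_one (Fintype.card F) 2
  · have e : groupMap D (κ.comp ι) g = J (groupMap D ι g) := by rw [hJ, groupMap_comp]
    rw [e, show y₁ * J y * J (groupMap D ι g) * (y₁ * J y)⁻¹ = y₁ * J (y * groupMap D ι g * y⁻¹) * y₁⁻¹ by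
      rw [map_mul, map_mul, map_inv]; group, hn, ← hm, hy₁]
    exact hh

/-- An element of two-power order is toral over an extension. -/
theorem exists_toral_two (C : Cert D X) (hC : CartanOK D) (k : ℕ) :
    ∀ {F : Type} [Field F] [Fintype F], Odd (Fintype.card F) → ∀ g : ↥(D.group F), g ^ (2 ^ k) = 1 →
    ∃ (M : Type) (_ : Field M) (_ : Fintype M) (ι : F →+* M), Odd (Fintype.card M) ∧
      Fintype.card F - 1 ∣ Fintype.card M - 1 ∧
      ∃ Y : ↥(D.group M), Y * groupMap D ι g * Y⁻¹ ∈ (chevRel C M).HS := by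
  induction k with
  | zero =>
    intro F _ _ hF g hg
    rw [pow_zero, pow_one] at hg
    exact ⟨F, inferInstance, inferInstance, RingHom.id F, hF, dvd_rfl, 1, by
      rw [hg, map_one, one_mul, inv_one, mul_one]; exact one_mem _⟩
  | succ k ih =>
    intro F _ _ hF g hg
    obtain ⟨L, iL, fL, ι, hL, hdvd, Y, hY⟩ := ih hF (g * g) (by rw [← pow_two, ← pow_mul, ← pow_succ']; exact hg)
    obtain ⟨M, iM, fM, κ, hM, hdvd', Z, hZ⟩ := exists_toral_of_sq C hC hL (g := Y * groupMap D ι g * Y⁻¹)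
      (by rw [conj_mul, ← map_mul]; exact hY)
    refine ⟨M, iM, fM, κ.comp ι, hM, hdvd.trans hdvd', Z * groupMap D κ Y, ?_⟩
    rw [map_mul, map_mul, map_inv, groupMap_comp] at hZ
    convert hZ using 1
    group

end CfsgLib.Known.E8Sub
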